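import Cfsg.Agent.Lib.AbelianCent.Metab

/-!
# `M' ≤ F(M)` for invariant solvable `M`
-/

set_option autoImplicit false
set_option linter.all false

namespace CfsgLib.AbelianCent

open Subgroup
open scoped commutatorElement

universe u

/-- In a nilpotent group a `p`-subgroup lies in every Sylow `p`-subgroup. -/
theorem le_sylow_of_nilpotent {G : Type*} [Group G] [Finite G] [Group.IsNilpotent G] {p : ℕ} [Fact p.Prime]
    (S : Sylow p G) {U : Subgroup G} (hU : IsPGroup p U) : U ≤ (S : Subgroup G) := by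
  obtain ⟨P, hP⟩ := hU.exists_le_sylow
  have hn : (S : Subgroup G).Normal := inferInstance
  haveI := Sylow.unique_of_normal S hn
  rwa [Subsingleton.elim S P]

/-- The Sylow subgroup given by a `p`-subgroup of index prime to `p` in `M`. -/
theorem exists_sylow_eq {Γ : Type*} [Group Γ] [Finite Γ] {M R : Subgroup Γ} {p : ℕ} [Fact p.Prime] (hRM : R ≤ M)
    (hR : IsPGroup p R) (hi : ¬ p ∣ R.relIndex M) : ∃ S : Sylow p M, (S : Subgroup M) = R.subgroupOf M :=
  ⟨(hR.comap_of_injective _ M.subtype_injective : IsPGroup p (R.subgroupOf M)).toSylow hi, rfl⟩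

theorem inf_normalizer_le_normalizer_sup' {Γ : Type*} [Group Γ] {H K : Subgroup Γ} :
    normalizer (H : Set Γ) ⊓ normalizer (K : Set Γ) ≤ normalizer ((H ⊔ K : Subgroup Γ) : Set Γ) := by
  intro g hg
  have h1 := mem_normalizer_iff_map_conj_eq.mp hg.1
  have h2 := mem_normalizer_iff_map_conj_eq.mp hg.2
  rw [mem_normalizer_iff_map_conj_eq]
  show (H ⊔ K).map (MulAut.conj g).toMonoidHom = H ⊔ K
  rw [Subgroup.map_sup]
  exact congrArg₂ _ h1 h2

theorem commutator_mem_of {Γ : Type*} [Group Γ] {H : Subgroup Γ} {a b : Γ} (ha : a ∈ H) (hb : b ∈ H) :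
    ⁅a, b⁆ ∈ H := by
  show a * b * a⁻¹ * b⁻¹ ∈ H
  exact mul_mem (mul_mem (mul_mem ha hb) (inv_mem ha)) (inv_mem hb)

theorem derived_aux (n : ℕ) : ∀ (Γ : Type u) [Group Γ] [Finite Γ] (A G M : Subgroup Γ) (q : ℕ), Sys A G q → M ≤ G →
    A ≤ normalizer (M : Set Γ) → Group.IsSolvable M → Nat.card M = n → Group.IsNilpotent ↥(⁅M, M⁆) := by
  induction n using Nat.strong_induction_on with
  | _ n ih =>
  intro Γ _ _ A G M q h hMG hMA hMs hn
  by_cases hM1 : M = ⊥
  · subst hM1
    rw [commutator_bot_left]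
    infer_instance
  obtain ⟨V, p, hp, hVM, hV1, hMV, hAV, hVc, hVp, hmin⟩ := exists_minimal h hMG hMA hMs hM1
  haveI := Fact.mk hp
  have hVG : V ≤ G := hVM.trans hMG
  have hVcom : ∀ a ∈ V, ∀ b ∈ V, a * b = b * a := fun a ha b hb =>
    congrArg Subtype.val (hVc.is_comm.comm ⟨a, ha⟩ ⟨b, hb⟩)
  obtain ⟨W, hW⟩ : ∃ W, W = ⁅M, M⁆ := ⟨_, rfl⟩
  have hWM : W ≤ M := hW ▸ commutator_le.mpr fun a ha b hb => commutator_mem_of ha hb
  have hWA : A ≤ normalizer (W : Set Γ) := hW ▸ le_normalizer_commutator hMA hMA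
  have hWV : W ≤ normalizer (V : Set Γ) := hWM.trans hMV
  -- the image of `W` modulo `V` is nilpotent
  haveI hWb : Group.IsNilpotent ↥(bar V W) := by
    have hlt : Nat.card (bar V M) < n := by
      subst hn
      obtain ⟨f, hf⟩ : ∃ f : ↥(M.subgroupOf (normalizer (V : Set Γ))) →* ↥(bar V M), Function.Surjective f :=
        ⟨_, MonoidHom.subgroupMap_surjective (QuotientGroup.mk' (V.subgroupOf (normalizer (V : Set Γ)))) _⟩
      rw [← Nat.card_congr (subgroupOfEquivOfLe hMV).toEquiv]
      refine lt_of_le_of_ne (Nat.card_le_card_of_surjective f hf) fun e => ?_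
      have hmul := card_mul_index (V.subgroupOf M)
      have hle : Nat.card (bar V M) ≤ (V.subgroupOf M).index := by
        haveI : (V.subgroupOf M).Normal := normal_subgroupOf_of_le_normalizer hMV
        rw [index_eq_card]
        let g : M →* Bar V := (QuotientGroup.mk' _).comp (Subgroup.inclusion hMV)
        have hg : bar V M = g.range := by
          ext z
          rw [mem_bar hMV]
          exact ⟨fun ⟨x, hx, e⟩ => ⟨⟨x, hx⟩, e⟩, fun ⟨⟨x, hx⟩, e⟩ => ⟨x, hx, e⟩⟩
        rw [hg]
        let g' : M ⧸ V.subgroupOf M →* g.range := QuotientGroup.lift _ g.rangeRestrict fun v hv => by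
          refine Subtype.ext ?_
          show mkBar V (hMV v.2) = 1
          exact (mkBar_eq_one _).mpr (mem_subgroupOf.mp hv)
        exact Nat.card_le_card_of_surjective g'
          (QuotientGroup.lift_surjective_of_surjective _ _ g.rangeRestrict_surjective _)
      rw [e, Nat.card_congr (subgroupOfEquivOfLe hMV).toEquiv, ← hmul] at hle
      have h2 : 1 < Nat.card (V.subgroupOf M) := by
        rw [Nat.card_congr (subgroupOfEquivOfLe hVM).toEquiv]
        exact V.one_lt_card_iff_ne_bot.mpr hV1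
      have h3 : 0 < (V.subgroupOf M).index := Nat.pos_of_ne_zero index_ne_zero_of_finite
      nlinarith
    have := ih _ hlt (Bar V) (bar V A) (bar V G) (bar V M) q (h.bar hVG hAV) (bar_mono hMG) (bar_le_normalizer hMA)
      (by
        haveI := hMs
        haveI : Group.IsSolvable ↥(M.subgroupOf (normalizer (V : Set Γ))) :=
          Group.isSolvable_of_isSolvable_injective (f := (subgroupOfEquivOfLe hMV).toMonoidHom) (MulEquiv.injective _)
        exact Group.isSolvable_of_surjective (MonoidHom.subgroupMap_surjective _ _)) rfl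
    rwa [bar_commutator hMV hMV, ← hW] at this
  obtain ⟨C, hC⟩ : ∃ C, C = M ⊓ centralizer (V : Set Γ) := ⟨_, rfl⟩
  have hCM : C ≤ M := hC ▸ inf_le_left
  have hCcent : C ≤ centralizer (V : Set Γ) := hC ▸ inf_le_right
  have hVC : V ≤ C := hC ▸ le_inf hVM fun v hv => mem_centralizer_iff.mpr fun w hw => hVcom w hw v hv
  have hCn : M ≤ normalizer (C : Set Γ) := hC ▸
    (le_inf le_normalizer (hMV.trans (Signalizer.normalizer_le_normalizer_centralizer_set V))).trans
      inf_normalizer_le_normalizer_inf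
  have hCA : A ≤ normalizer (C : Set Γ) := hC ▸
    (le_inf hMA (hAV.trans (Signalizer.normalizer_le_normalizer_centralizer_set V))).trans
      inf_normalizer_le_normalizer_inf
  have hCconj : ∀ m ∈ M, ∀ c ∈ C, m * c * m⁻¹ ∈ C := fun m hm c hc => (mem_normalizer_iff.mp (hCn hm) c).mp hc
  have hVcom' : ∀ x ∈ M, ∀ v ∈ V, ⁅x, v⁆ ∈ C := fun x hx v hv => hVC (by
    rw [commutatorElement_def]
    exact mul_mem ((mem_normalizer_iff.mp (hMV hx) v).mp hv) (inv_mem hv))
  -- the elements of `M` which commute with `M` modulo `C`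
  let Z : Subgroup Γ :=
    { carrier := {x | x ∈ M ∧ ∀ m ∈ M, ⁅x, m⁆ ∈ C}
      one_mem' := ⟨one_mem _, fun m _ => by rw [commutatorElement_one_left]; exact one_mem _⟩
      mul_mem' := fun {a b} ha hb => ⟨mul_mem ha.1 hb.1, fun m hm => by
        rw [show ⁅a * b, m⁆ = a * ⁅b, m⁆ * a⁻¹ * ⁅a, m⁆ by simp only [commutatorElement_def]; group]
        exact mul_mem (hCconj a ha.1 _ (hb.2 m hm)) (ha.2 m hm)⟩
      inv_mem' := fun {a} ha => ⟨inv_mem ha.1, fun m hm => by
        rw [show ⁅a⁻¹, m⁆ = a⁻¹ * ⁅a, m⁆⁻¹ * a⁻¹⁻¹ by simp only [commutatorElement_def]; group]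
        exact hCconj _ (inv_mem ha.1) _ (inv_mem (ha.2 m hm))⟩ }
  have hWZ : W ≤ Z := by
    refine le_of_sylows fun r hr => ?_
    haveI := Fact.mk hr
    obtain ⟨R, hRW, hRA, hRr, hRi, hRmax⟩ := h.exists_syl' (hWM.trans hMG) hWA r
    refine ⟨R, hRW, hRi, ?_⟩
    have hRM : R ≤ M := hRW.trans hWM
    have hRV : R ≤ normalizer (V : Set Γ) := hRM.trans hMV
    -- `R V` is normal
    have hRVn : M ≤ normalizer ((R ⊔ V : Subgroup Γ) : Set Γ) := by
      have key : ∀ m ∈ M, ∀ x ∈ R, m * x * m⁻¹ ∈ R ⊔ V := by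
        intro m hm x hx
        have hy : m * x * m⁻¹ ∈ W := by
          have h1 : M ≤ normalizer (W : Set Γ) := hW ▸ le_normalizer_commutator le_normalizer le_normalizer
          exact (mem_normalizer_iff.mp (h1 hm) x).mp (hRW hx)
        obtain ⟨S0, hS0⟩ := exists_sylow_eq hRW hRr hRi
        let f : W →* ↥(bar V W) := ((QuotientGroup.mk' (V.subgroupOf (normalizer (V : Set Γ)))).comp
          (Subgroup.inclusion hWV)).codRestrict _ fun w => mkBar_mem (hWV w.2) w.2
        have hf : Function.Surjective f := by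
          rintro ⟨z, hz⟩
          obtain ⟨w, hw, e⟩ := (mem_bar hWV).mp hz
          exact ⟨⟨w, hw⟩, Subtype.ext e⟩
        have hpg : IsPGroup r ↥(zpowers (f ⟨m * x * m⁻¹, hy⟩)) := by
          obtain ⟨k, hk⟩ := hRr ⟨x, hx⟩
          have hk' : (⟨m * x * m⁻¹, hy⟩ : W) ^ r ^ k = 1 := Subtype.ext (by
            show (m * x * m⁻¹) ^ r ^ k = 1
            rw [conj_pow, show x ^ r ^ k = 1 from congrArg Subtype.val hk, mul_one, mul_inv_cancel])
          obtain ⟨j, -, hj⟩ := (Nat.dvd_prime_pow hr).mp (orderOf_dvd_of_pow_eq_one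
            (by rw [← map_pow, hk', map_one] : f ⟨m * x * m⁻¹, hy⟩ ^ r ^ k = 1))
          exact IsPGroup.of_card (n := j) (by rw [Nat.card_zpowers, hj])
        have := le_sylow_of_nilpotent (S0.mapSurjective hf) hpg (mem_zpowers _)
        rw [Sylow.coe_mapSurjective, mem_map] at this
        obtain ⟨y, hy', e⟩ := this
        rw [hS0, mem_subgroupOf] at hy'
        have e' : mkBar V (hWV y.2) = mkBar V (hWV hy) := congrArg Subtype.val e
        rw [mkBar, mkBar, QuotientGroup.mk'_apply, QuotientGroup.mk'_apply, QuotientGroup.eq, mem_subgroupOf] at e'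
        rw [show m * x * m⁻¹ = (y : Γ) * ((y : Γ)⁻¹ * (m * x * m⁻¹)) by group]
        exact mul_mem (mem_sup_left hy') (mem_sup_right e')
      rw [le_normalizer_iff]
      intro m hm w hw
      have hle : R ⊔ V ≤ (R ⊔ V).comap (MulAut.conj m).toMonoidHom := sup_le (fun x hx => key m hm x hx)
        fun v hv => mem_sup_right ((mem_normalizer_iff.mp (hMV hm) v).mp hv)
      exact hle hw
    have hRVA : A ≤ normalizer ((R ⊔ V : Subgroup Γ) : Set Γ) :=
      (le_inf hRA hAV).trans inf_normalizer_le_normalizer_sup'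
    by_cases hrp : r = p
    · subst hrp
      have hP := pGroup_centralizes (M := M) (P := R ⊔ V) hVp hV1 hVc hMV hAV (hRr.to_sup_of_normal_right' hVp hRV)
        (sup_le hRV le_normalizer)
        ((le_inf hMV (hRVn.trans (Signalizer.normalizer_le_normalizer_centralizer_set _))).trans
          inf_normalizer_le_normalizer_inf)
        ((le_inf hAV (hRVA.trans (Signalizer.normalizer_le_normalizer_centralizer_set _))).trans
          inf_normalizer_le_normalizer_inf) hmin
      refine fun x hx => ⟨hRM hx, fun m hm => ?_⟩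
      have hxC : x ∈ C := hC ▸ ⟨hRM hx, hP (mem_sup_left hx)⟩
      rw [show ⁅x, m⁆ = x * (m * x⁻¹ * m⁻¹) by rw [commutatorElement_def]; group]
      exact mul_mem hxC (hCconj m hm _ (inv_mem hxC))
    -- `r ≠ p`
    have hidx : ¬ r ∣ R.relIndex (R ⊔ V) := by
      intro hd
      have hcop : (Nat.card R).Coprime (Nat.card V) := IsPGroup.coprime_card_of_ne _ _ hrp _ _ hRr hVp
      have h1 := Core.card_sup_of_coprime R V hRV hcop
      have h2 : Nat.card R * R.relIndex (R ⊔ V) = Nat.card ↥(R ⊔ V) := by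
        have := relIndex_mul_relIndex ⊥ R (R ⊔ V) bot_le le_sup_left
        rwa [relIndex_bot_left, relIndex_bot_left] at this
      rw [h1] at h2
      rw [Nat.eq_of_mul_eq_mul_left Nat.card_pos h2] at hd
      obtain ⟨k, hk⟩ := hVp.exists_card_eq
      rw [hk] at hd
      exact hrp ((Nat.prime_dvd_prime_iff_eq hr hp).mp (hr.dvd_of_dvd_pow hd))
    have hfr := frattini_le (le_sup_left : R ≤ R ⊔ V) (sup_le hRM hVM) hRVn hRr hidx
    have hNR : R ≤ M ⊓ normalizer (R : Set Γ) := le_inf hRM le_normalizer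
    let T : Subgroup Γ :=
      { carrier := {k | k ∈ M ∧ k ∈ normalizer (R : Set Γ) ∧ ∀ x ∈ R, ⁅x, k⁆ ∈ C}
        one_mem' := ⟨one_mem _, one_mem _, fun x _ => by rw [commutatorElement_one_right]; exact one_mem _⟩
        mul_mem' := fun {a b} ha hb => ⟨mul_mem ha.1 hb.1, mul_mem ha.2.1 hb.2.1, fun x hx => by
          rw [show ⁅x, a * b⁆ = ⁅x, a⁆ * (a * ⁅x, b⁆ * a⁻¹) by simp only [commutatorElement_def]; group]
          exact mul_mem (ha.2.2 x hx) (hCconj a ha.1 _ (hb.2.2 x hx))⟩
        inv_mem' := fun {a} ha => ⟨inv_mem ha.1, inv_mem ha.2.1, fun x hx => by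
          rw [show ⁅x, a⁻¹⁆ = a⁻¹ * ⁅x, a⁆⁻¹ * a⁻¹⁻¹ by simp only [commutatorElement_def]; group]
          exact hCconj _ (inv_mem ha.1) _ (inv_mem (ha.2.2 x hx))⟩ }
    have hNA : A ≤ normalizer ((M ⊓ normalizer (R : Set Γ) : Subgroup Γ) : Set Γ) :=
      (le_inf hMA (hRA.trans le_normalizer)).trans inf_normalizer_le_normalizer_inf
    have hNT : M ⊓ normalizer (R : Set Γ) ≤ T := by
      refine le_of_sylows fun s hs => ?_
      haveI := Fact.mk hs
      obtain ⟨S, hSN, hSA, hSs, hSi, hSmax⟩ := h.exists_syl' (inf_le_left.trans hMG) hNA s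
      refine ⟨S, hSN, hSi, ?_⟩
      by_cases hsr : s = r
      · subst hsr
        intro k hk
        refine ⟨(hSN hk).1, (hSN hk).2, fun x hx => ?_⟩
        obtain ⟨n', hn'⟩ := pGroup_lc hSs
        rw [hC]
        exact ⟨commutator_mem_of (hRM hx) (hSN hk).1,
          commutator_centralizes h (hSN.trans (inf_le_left.trans hMG)) hSA hVc hVG hAV (hSN.trans (inf_le_left.trans hMV))
            (IsPGroup.coprime_card_of_ne _ _ hrp _ _ hSs hVp) (hn'.trans_le bot_le)
            (commutator_mem_commutator (hSmax R hNR hRr hRA hx) hk)⟩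
      · refine h.gen (hSN.trans (inf_le_left.trans hMG)) hSA fun a ha ha1 k hk => ?_
        refine ⟨(hSN hk.1).1, (hSN hk.1).2, fun x hx => ?_⟩
        rw [hC]
        exact ⟨commutator_mem_of (hRM hx) (hSN hk.1).1,
          twist_commutes h hVc hVp hVG hAV (hRM.trans hMG) hRr hRA hRV hrp hsr ha ha1 (hMG (hSN hk.1).1)
            (mem_cent.mp hk.2) (hMV (hSN hk.1).1) (hSN hk.1).2
            (hSs.to_le (zpowers_le.mpr hk.1)) x hx⟩
    intro x hx
    refine ⟨hRM hx, fun m hm => ?_⟩
    have hRVle : R ⊔ V ≤ (M ⊓ normalizer (R : Set Γ)) ⊔ V := sup_le (hNR.trans le_sup_left) le_sup_right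
    have hm2 : m ∈ (M ⊓ normalizer (R : Set Γ)) ⊔ V :=
      (sup_le le_sup_left hRVle : (M ⊓ normalizer (R : Set Γ)) ⊔ (R ⊔ V) ≤ _) (hfr hm)
    rw [Core.mem_sup_iff_mul (inf_le_left.trans hMV)] at hm2
    obtain ⟨k, hk, v, hv, rfl⟩ := hm2
    rw [show ⁅x, k * v⁆ = ⁅x, k⁆ * (k * ⁅x, v⁆ * k⁻¹) by simp only [commutatorElement_def]; group]
    exact mul_mem ((hNT hk).2.2 x hx) (hCconj k hk.1 _ (hVcom' x (hRM hx) v hv))
  -- `M` is nilpotent modulo `C`
  haveI : (C.subgroupOf M).Normal := normal_subgroupOf_of_le_normalizer hCn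
  let π := QuotientGroup.mk' (C.subgroupOf M)
  haveI hMC : Group.IsNilpotent (M ⧸ C.subgroupOf M) := by
    haveI : Group.IsNilpotent (Abelianization (M ⧸ C.subgroupOf M)) := CommGroup.isNilpotent
    refine Subgroup.isNilpotent_of_ker_le_center (Abelianization.of (G := M ⧸ C.subgroupOf M)) ?_
    rw [Abelianization.ker_of]
    intro z hz
    rw [_root_.commutator_def, ← Subgroup.map_top_of_surjective π (QuotientGroup.mk'_surjective _),
      ← map_commutator] at hz
    obtain ⟨w, hw, rfl⟩ := hz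
    rw [mem_center_iff]
    intro y
    obtain ⟨y, rfl⟩ := QuotientGroup.mk'_surjective (C.subgroupOf M) y
    refine (commutatorElement_eq_one_iff_mul_comm.mp ?_).symm
    rw [← map_commutatorElement, QuotientGroup.mk'_apply, QuotientGroup.eq_one_iff, mem_subgroupOf]
    refine (hWZ (hW ▸ ?_)).2 y y.2
    have h3 := mem_map_of_mem M.subtype hw
    rwa [map_commutator, ← MonoidHom.range_eq_map, range_subtype] at h3
  -- the Sylow subgroups act commutatively
  have hsyl : ∀ r : ℕ, r.Prime → ∃ R : Subgroup Γ, R ≤ M ∧ A ≤ normalizer (R : Set Γ) ∧ ¬ r ∣ R.relIndex M ∧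
      (∀ x ∈ R, ∀ y ∈ R, ⁅x, y⁆ ∈ C) ∧ ∃ S : Sylow r (M ⧸ C.subgroupOf M),
        (S : Subgroup _) = (R.subgroupOf M).map π := by
    intro r hr
    haveI := Fact.mk hr
    obtain ⟨R, hRM, hRA, hRr, hRi, -⟩ := h.exists_syl' hMG hMA r
    obtain ⟨S0, hS0⟩ := exists_sylow_eq hRM hRr hRi
    refine ⟨R, hRM, hRA, hRi, ?_, S0.mapSurjective (QuotientGroup.mk'_surjective _), ?_⟩
    swap
    · rw [Sylow.coe_mapSurjective, hS0]
    have hRV : R ≤ normalizer (V : Set Γ) := hRM.trans hMV
    by_cases hrp : r = p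
    · subst hrp
      -- `R C` is normal and its fixed points are those of `R`
      have hRCn : M ≤ normalizer ((R ⊔ C : Subgroup Γ) : Set Γ) := by
        have hnS : ((S0.mapSurjective (f := π) (QuotientGroup.mk'_surjective _) : Sylow r _) :
            Subgroup (M ⧸ C.subgroupOf M)).Normal :=
          inferInstance
        rw [Sylow.coe_mapSurjective, hS0] at hnS
        have hle : (R.subgroupOf M).map π = ((R ⊔ C).subgroupOf M).map π := by
          rw [subgroupOf_sup hRM hCM, Subgroup.map_sup, (Subgroup.map_eq_bot_iff (f := π) (C.subgroupOf M)).mpr (by rw [QuotientGroup.ker_mk']), sup_bot_eq]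
        rw [hle] at hnS
        have hcm : (((R ⊔ C).subgroupOf M).map π).comap π = (R ⊔ C).subgroupOf M :=
          comap_map_eq_self (by
            rw [QuotientGroup.ker_mk']
            exact fun c hc => mem_subgroupOf.mpr (mem_sup_right (mem_subgroupOf.mp hc)))
        have := hnS.comap π
        rw [hcm] at this
        exact (normal_subgroupOf_iff_le_normalizer (sup_le hRM hCM)).mp this
      have hP := pGroup_centralizes (M := M) (P := R) hVp hV1 hVc hMV hAV hRr hRV
        (by
          have e : V ⊓ centralizer (R : Set Γ) = V ⊓ centralizer ((R ⊔ C : Subgroup Γ) : Set Γ) := by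
            refine le_antisymm (le_inf inf_le_left ?_) (inf_le_inf_left _ (centralizer_le (SetLike.coe_subset_coe.mpr le_sup_left)))
            rw [le_centralizer_iff]
            exact sup_le (le_centralizer_iff.mp inf_le_right) (hCcent.trans (centralizer_le (SetLike.coe_subset_coe.mpr inf_le_left)))
          rw [e]
          exact (le_inf hMV (hRCn.trans (Signalizer.normalizer_le_normalizer_centralizer_set _))).trans
            inf_normalizer_le_normalizer_inf)
        ((le_inf hAV (hRA.trans (Signalizer.normalizer_le_normalizer_centralizer_set _))).trans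
          inf_normalizer_le_normalizer_inf) hmin
      exact fun x hx y hy => hC ▸ ⟨commutator_mem_of (hRM hx) (hRM hy),
        commutator_mem_of (hP hx) (hP hy)⟩
    · obtain ⟨n', hn'⟩ := pGroup_lc hRr
      exact fun x hx y hy => hC ▸ ⟨commutator_mem_of (hRM hx) (hRM hy),
        commutator_centralizes h (hRM.trans hMG) hRA hVc hVG hAV hRV
          (IsPGroup.coprime_card_of_ne _ _ hrp _ _ hRr hVp) (hn'.trans_le bot_le) (commutator_mem_commutator hx hy)⟩
  have hMZ : M ≤ Z := by
    refine le_of_sylows fun r hr => ?_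
    obtain ⟨R, hRM, -, hRi, hRc, S, hS'⟩ := hsyl r hr
    have hS : ∀ x, ∀ hx : x ∈ R, ∀ hxM : x ∈ M, π ⟨x, hxM⟩ ∈ (S : Subgroup _) := fun x hx hxM =>
      hS' ▸ mem_map_of_mem π (mem_subgroupOf.mpr hx)
    refine ⟨R, hRM, hRi, fun x hx => ⟨hRM hx, ?_⟩⟩
    -- the elements commuting with `x`
    let T : Subgroup Γ :=
      { carrier := {k | k ∈ M ∧ ⁅x, k⁆ ∈ C}
        one_mem' := ⟨one_mem _, by rw [commutatorElement_one_right]; exact one_mem _⟩
        mul_mem' := fun {a b} ha hb => ⟨mul_mem ha.1 hb.1, by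
          rw [show ⁅x, a * b⁆ = ⁅x, a⁆ * (a * ⁅x, b⁆ * a⁻¹) by simp only [commutatorElement_def]; group]
          exact mul_mem ha.2 (hCconj a ha.1 _ hb.2)⟩
        inv_mem' := fun {a} ha => ⟨inv_mem ha.1, by
          rw [show ⁅x, a⁻¹⁆ = a⁻¹ * ⁅x, a⁆⁻¹ * a⁻¹⁻¹ by simp only [commutatorElement_def]; group]
          exact hCconj _ (inv_mem ha.1) _ (inv_mem ha.2)⟩ }
    have hT : M ≤ T := by
      refine le_of_sylows fun s hs => ?_
      obtain ⟨R', hRM', -, hRi', hRc', S', hS''⟩ := hsyl s hs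
      have hS'_ : ∀ x, ∀ hx : x ∈ R', ∀ hxM : x ∈ M, π ⟨x, hxM⟩ ∈ (S' : Subgroup _) := fun x hx hxM =>
        hS'' ▸ mem_map_of_mem π (mem_subgroupOf.mpr hx)
      refine ⟨R', hRM', hRi', fun y hy => ⟨hRM' hy, ?_⟩⟩
      by_cases hsr : s = r
      · subst hsr
        haveI := Fact.mk hs
        have h1 := hS x hx (hRM hx)
        have h2 := hS'_ y hy (hRM' hy)
        haveI := Sylow.unique_of_normal S inferInstance
        rw [Subsingleton.elim S' S] at h2
        -- replace `y` by an element of `R`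
        obtain ⟨y', hy', ey⟩ := hS'.le h2
        have hy'' : (y' : Γ)⁻¹ * y ∈ C := by
          rw [QuotientGroup.mk'_apply, QuotientGroup.mk'_apply, QuotientGroup.eq, mem_subgroupOf] at ey
          exact ey
        rw [show y = (y' : Γ) * ((y' : Γ)⁻¹ * y) by group,
          show ⁅x, (y' : Γ) * ((y' : Γ)⁻¹ * y)⁆ = ⁅x, (y' : Γ)⁆ * ((y' : Γ) * ⁅x, (y' : Γ)⁻¹ * y⁆ * (y' : Γ)⁻¹) by
            simp only [commutatorElement_def]; group]
        refine mul_mem (hRc x hx y' hy') (hCconj _ y'.2 _ ?_)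
        rw [commutatorElement_def]
        exact mul_mem (hCconj x (hRM hx) _ hy'') (inv_mem hy'')
      · haveI := Fact.mk hr
        haveI := Fact.mk hs
        have hn1 : (S : Subgroup (M ⧸ C.subgroupOf M)).Normal := inferInstance
        have hn2 : (S' : Subgroup (M ⧸ C.subgroupOf M)).Normal := inferInstance
        have hdis : Disjoint (S : Subgroup (M ⧸ C.subgroupOf M)) (S' : Subgroup _) :=
          disjoint_iff.mpr (Subgroup.inf_eq_bot_of_coprime
            (IsPGroup.coprime_card_of_ne _ _ (Ne.symm hsr) _ _ S.isPGroup' S'.isPGroup'))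
        have := commutatorElement_eq_one_iff_mul_comm.mpr
          (Subgroup.commute_of_normal_of_disjoint _ _ hn1 hn2 hdis _ _ (hS x hx (hRM hx)) (hS'_ y hy (hRM' hy))).eq
        rw [← map_commutatorElement, QuotientGroup.mk'_apply, QuotientGroup.eq_one_iff, mem_subgroupOf] at this
        exact this
    exact fun m hm => (hT hm).2
  have hWC : W ≤ C := hW ▸ commutator_le.mpr fun a ha b hb => (hMZ ha).2 b hb
  -- conclusion
  rw [← hW]
  let f : W →* ↥(bar V W) := ((QuotientGroup.mk' (V.subgroupOf (normalizer (V : Set Γ)))).comp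
    (Subgroup.inclusion hWV)).codRestrict _ fun w => mkBar_mem (hWV w.2) w.2
  refine Subgroup.isNilpotent_of_ker_le_center f fun x hx => ?_
  have hxV : (x : Γ) ∈ V := (mkBar_eq_one (hWV x.2)).mp (congrArg Subtype.val hx)
  rw [mem_center_iff]
  exact fun y => Subtype.ext ((mem_centralizer_iff.mp (hCcent (hWC y.2)) x hxV).symm)

/-- The derived subgroup of an invariant solvable subgroup is nilpotent. -/
theorem Sys.derived {Γ : Type u} [Group Γ] [Finite Γ] {A G : Subgroup Γ} {q : ℕ} (h : Sys A G q) {M : Subgroup Γ}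
    (hMG : M ≤ G) (hMA : A ≤ normalizer (M : Set Γ)) (hMs : Group.IsSolvable M) :
    Group.IsNilpotent ↥(⁅M, M⁆) :=
  derived_aux _ Γ A G M q h hMG hMA hMs rfl

end CfsgLib.AbelianCent
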