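import Cfsg.Agent.Lib.AbelianCent.Derived
import Cfsg.Agent.Lib.PGroups.Basic

/-!
# Frattini quotients of invariant subgroups, preimages in sections, invariant Sylow subgroups
-/

set_option autoImplicit false
set_option linter.all false

namespace CfsgLib.AbelianCent

open Subgroup
open scoped commutatorElement

universe u

variable {Γ : Type u} [Group Γ] [Finite Γ] {A G : Subgroup Γ} {q : ℕ}

/-- The Frattini subgroup of a subgroup, in the ambient group. -/
def frat (U : Subgroup Γ) : Subgroup Γ := (frattini U).map U.subtype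

omit [Finite Γ] in
theorem frat_le (U : Subgroup Γ) : frat U ≤ U := map_subtype_le _

theorem commutator_le_frat {U : Subgroup Γ} {r : ℕ} [Fact r.Prime] (hU : IsPGroup r U) : ⁅U, U⁆ ≤ frat U := by
  have h1 := Subgroup.map_mono (f := U.subtype) (CfsgLib.PGroups.commutator_le_frattini' hU)
  rwa [_root_.commutator_def, map_commutator, ← MonoidHom.range_eq_map, range_subtype] at h1

omit [Finite Γ] in
theorem le_normalizer_frat {X U : Subgroup Γ} (hX : X ≤ normalizer (U : Set Γ)) :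
    X ≤ normalizer (frat U : Set Γ) := by
  rw [le_normalizer_iff]
  rintro g hg _ ⟨x, hx, rfl⟩
  let φ : MulAut U := U.normalizerMonoidHom ⟨g, hX hg⟩
  have h1 : φ x ∈ (frattini U).map φ.toMonoidHom := mem_map_of_mem _ hx
  rw [characteristic_iff_map_eq.mp (inferInstance : (frattini U).Characteristic) φ] at h1
  exact ⟨φ x, h1, rfl⟩

theorem eq_of_sup_frat {H U : Subgroup Γ} (hHU : H ≤ U) (h : U ≤ H ⊔ frat U) : U ≤ H := by
  refine subgroupOf_eq_top.mp (frattini_nongenerating ?_)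
  refine Subgroup.map_injective U.subtype_injective ?_
  rw [Subgroup.map_sup, map_subgroupOf_eq_of_le hHU, ← MonoidHom.range_eq_map, range_subtype]
  exact le_antisymm (sup_le hHU (frat_le U)) h

theorem frat_ne {U : Subgroup Γ} (hU : U ≠ ⊥) : frat U ≠ U := fun e =>
  hU (le_bot_iff.mp (eq_of_sup_frat bot_le (e.ge.trans le_sup_right)))

theorem card_frat_lt {U : Subgroup Γ} (hU : U ≠ ⊥) : Nat.card (frat U) < Nat.card U :=
  lt_of_le_of_ne (Nat.le_of_dvd Nat.card_pos (card_dvd_of_le (frat_le U)))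
    fun e => frat_ne hU (Subgroup.eq_of_le_of_card_ge (frat_le U) e.ge)

/-- Coprime operators trivial on the Frattini quotient are trivial. -/
theorem centralizes_of_frat {X U : Subgroup Γ} (hXU : X ≤ normalizer (U : Set Γ))
    (hcop : (Nat.card X).Coprime (Nat.card U)) (h : ∀ x ∈ X, ∀ u ∈ U, ⁅x, u⁆ ∈ frat U) :
    X ≤ centralizer (U : Set Γ) :=
  Core.centralizes_of_centralizes_frattini_quotient hXU (hcop.coprime_dvd_right (card_subgroup_dvd_card _))
    fun x hx u hu => h x hx u hu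

/-- An element stabilising a subgroup in both directions normalises it. -/
theorem mem_normalizer_of_both {Δ : Type*} [Group Δ] {H : Subgroup Δ} {k : Δ}
    (h1 : ∀ g ∈ H, k * g * k⁻¹ ∈ H) (h2 : ∀ g ∈ H, k⁻¹ * g * k ∈ H) : k ∈ normalizer (H : Set Δ) := by
  rw [mem_normalizer_iff]
  exact fun g => ⟨h1 g, fun hg => by simpa [mul_assoc] using h2 _ hg⟩

/-- A Sylow subgroup of a nilpotent subgroup is normalised by whatever normalises that subgroup. -/
theorem le_normalizer_of_nilpotent {W R X : Subgroup Γ} {r : ℕ} [Fact r.Prime] (hWn : Group.IsNilpotent W) (hRW : R ≤ W)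
    (hR : IsPGroup r R) (hi : ¬ r ∣ R.relIndex W) (hX : X ≤ normalizer (W : Set Γ)) :
    X ≤ normalizer (R : Set Γ) := by
  haveI := hWn
  obtain ⟨S, hS⟩ := exists_sylow_eq hRW hR hi
  rw [le_normalizer_iff]
  intro g hg x hx
  let φ : MulAut W := W.normalizerMonoidHom ⟨g, hX hg⟩
  have h1 : φ ⟨x, hRW hx⟩ ∈ (R.subgroupOf W).map φ.toMonoidHom := mem_map_of_mem _ (mem_subgroupOf.mpr hx)
  have h2 := le_sylow_of_nilpotent S ((hS ▸ S.isPGroup' : IsPGroup r (R.subgroupOf W)).map φ.toMonoidHom) h1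
  rw [hS] at h2
  exact mem_subgroupOf.mp h2

/-! ### Preimages -/

section Pre

variable {N : Subgroup Γ}

/-- The preimage of a subgroup of a section. -/
def pre (N : Subgroup Γ) (W : Subgroup (Bar N)) : Subgroup Γ :=
  (W.comap (QuotientGroup.mk' _)).map (normalizer (N : Set Γ)).subtype

omit [Finite Γ] in
theorem mem_pre {W : Subgroup (Bar N)} {x : Γ} : x ∈ pre N W ↔ ∃ hx : x ∈ normalizer (N : Set Γ), mkBar N hx ∈ W :=
  ⟨by rintro ⟨⟨y, hy⟩, hyW, rfl⟩; exact ⟨hy, hyW⟩, fun ⟨hx, hxW⟩ => ⟨⟨x, hx⟩, hxW, rfl⟩⟩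

omit [Finite Γ] in
theorem mkBar_eq_iff {x y : Γ} (hx : x ∈ normalizer (N : Set Γ)) (hy : y ∈ normalizer (N : Set Γ)) :
    mkBar N hx = mkBar N hy ↔ x⁻¹ * y ∈ N := by
  rw [mkBar, mkBar, QuotientGroup.mk'_apply, QuotientGroup.mk'_apply, QuotientGroup.eq, mem_subgroupOf]
  rfl

omit [Finite Γ] in
theorem pre_le {W : Subgroup (Bar N)} {U : Subgroup Γ} (hNU : N ≤ U) (hUN : U ≤ normalizer (N : Set Γ))
    (hW : W ≤ bar N U) : pre N W ≤ U := by
  intro x hx
  obtain ⟨hx', hxW⟩ := mem_pre.mp hx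
  obtain ⟨u, hu, e⟩ := (mem_bar hUN).mp (hW hxW)
  have := mul_mem hu (hNU ((mkBar_eq_iff (hUN hu) hx').mp e))
  rwa [mul_inv_cancel_left] at this

omit [Finite Γ] in
theorem pre_le_normalizer {W : Subgroup (Bar N)} {X : Subgroup Γ} (hX : X ≤ normalizer (N : Set Γ))
    (hXW : bar N X ≤ normalizer (W : Set (Bar N))) : X ≤ normalizer (pre N W : Set Γ) := by
  rw [le_normalizer_iff]
  intro g hg x hx
  obtain ⟨hx', hxW⟩ := mem_pre.mp hx
  refine mem_pre.mpr ⟨mul_mem (mul_mem (hX hg) hx') (inv_mem (hX hg)), ?_⟩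
  exact (mem_normalizer_iff.mp (hXW (mkBar_mem (hX hg) hg)) _).mp hxW

omit [Finite Γ] in
theorem le_bar_pre {W : Subgroup (Bar N)} : W ≤ bar N (pre N W) := by
  intro w hw
  obtain ⟨⟨x, hx⟩, rfl⟩ := QuotientGroup.mk'_surjective _ w
  exact mkBar_mem hx (mem_pre.mpr ⟨hx, hw⟩)

omit [Finite Γ] in
theorem le_sup_of_bar_le {X Y : Subgroup Γ} (hX : X ≤ normalizer (N : Set Γ)) (hY : Y ≤ normalizer (N : Set Γ))
    (h : bar N X ≤ bar N Y) : X ≤ Y ⊔ N := by
  intro x hx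
  obtain ⟨y, hy, e⟩ := (mem_bar hY).mp (h (mkBar_mem (hX hx) hx))
  rw [← mul_inv_cancel_left y x]
  exact mul_mem (mem_sup_left hy) (mem_sup_right ((mkBar_eq_iff (hY hy) (hX hx)).mp e))

/-- Operators in the section lie on the same line only if they did before. -/
theorem Sys.bar_outside (h : Sys A G q) (hNG : N ≤ G) (hN : A ≤ normalizer (N : Set Γ)) {c e : Γ} (hc : c ∈ A)
    (he : e ∈ A) (hec : e ∉ zpowers c) : mkBar N (hN he) ∉ zpowers (mkBar N (hN hc)) := by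
  intro hm
  obtain ⟨i, hi⟩ := mem_zpowers_iff.mp hm
  have hi' : mkBar N (zpow_mem (hN hc) i) = mkBar N (hN he) := by
    rw [← hi, mkBar, mkBar, ← map_zpow]
    rfl
  have h1 : A ⊓ N = ⊥ := Subgroup.inf_eq_bot_of_coprime (h.coprime hNG)
  have := mem_bot.mp (h1.le ⟨(mul_mem (inv_mem (zpow_mem hc i)) he : (c ^ i)⁻¹ * e ∈ A), (mkBar_eq_iff _ _).mp hi'⟩)
  exact hec (mem_zpowers_iff.mpr ⟨i, inv_mul_eq_one.mp this⟩)

theorem Sys.mkBar_ne_one (h : Sys A G q) (hNG : N ≤ G) (hN : A ≤ normalizer (N : Set Γ)) {c : Γ} (hc : c ∈ A)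
    (hc1 : c ≠ 1) : mkBar N (hN hc) ≠ 1 := fun e =>
  hc1 (mem_bot.mp ((Subgroup.inf_eq_bot_of_coprime (h.coprime hNG)).le ⟨hc, (mkBar_eq_one _).mp e⟩))

end Pre

/-! ### Invariant Sylow subgroups -/

/-- The invariant Sylow subgroup. -/
structure Syl (A G : Subgroup Γ) (r : ℕ) (P : Subgroup Γ) : Prop where
  le : P ≤ G
  inv : A ≤ normalizer (P : Set Γ)
  pgroup : IsPGroup r P
  ndvd : ¬ r ∣ P.relIndex G
  max : ∀ U ≤ G, IsPGroup r U → A ≤ normalizer (U : Set Γ) → U ≤ P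

theorem Sys.exists_Syl (h : Sys A G q) (r : ℕ) [Fact r.Prime] : ∃ P, Syl A G r P := by
  obtain ⟨R, h1, h2, h3, h4, h5⟩ := h.exists_syl' le_rfl h.norm r
  exact ⟨R, h1, h2, h3, h4, h5⟩

/-- The invariant Sylow subgroup of an invariant subgroup. -/
theorem Syl.inf (h : Sys A G q) {r : ℕ} [Fact r.Prime] {P M : Subgroup Γ} (hP : Syl A G r P) (hM : M ≤ G)
    (hMA : A ≤ normalizer (M : Set Γ)) : Syl A M r (P ⊓ M) := by
  have hinv : A ≤ normalizer ((P ⊓ M : Subgroup Γ) : Set Γ) :=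
    (le_inf hP.inv hMA).trans inf_normalizer_le_normalizer_inf
  obtain ⟨R, h1, h2, h3, h4, h5⟩ := h.exists_syl' hM hMA r
  have e : P ⊓ M = R := le_antisymm (h5 _ inf_le_right (hP.pgroup.to_le inf_le_left) hinv)
    (le_inf (hP.max R (h1.trans hM) h3 h2) h1)
  exact ⟨inf_le_right, hinv, hP.pgroup.to_le inf_le_left, e ▸ h4, fun U hU hUp hUA =>
    le_inf (hP.max U (hU.trans hM) hUp hUA) hU⟩

/-- The invariant Sylow subgroups of the derived group are normal. -/
theorem Syl.normalized (h : Sys A G q) {r : ℕ} [Fact r.Prime] {P M : Subgroup Γ} (hP : Syl A G r P) (hM : M ≤ G)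
    (hMA : A ≤ normalizer (M : Set Γ)) (hMs : Group.IsSolvable M) :
    ⁅M, M⁆ ≤ M ∧ A ≤ normalizer ((⁅M, M⁆ : Subgroup Γ) : Set Γ) ∧ M ≤ normalizer ((P ⊓ ⁅M, M⁆ : Subgroup Γ) : Set Γ) := by
  have hle : ⁅M, M⁆ ≤ M := commutator_le.mpr fun a ha b hb => commutator_mem_of ha hb
  have hA := le_normalizer_commutator hMA hMA
  have hS := hP.inf h (hle.trans hM) hA
  exact ⟨hle, hA, le_normalizer_of_nilpotent (h.derived hM hMA hMs) hS.le hS.pgroup hS.ndvd
    (le_normalizer_commutator le_normalizer le_normalizer)⟩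

/-- `M` is generated by a Sylow normaliser and the normal subgroups of its derived group. -/
theorem Syl.le_of_frattini (h : Sys A G q) {p : ℕ} [Fact p.Prime] {P M L : Subgroup Γ} (hP : Syl A G p P) (hM : M ≤ G)
    (hMA : A ≤ normalizer (M : Set Γ)) (hMs : Group.IsSolvable M)
    (hN : M ⊓ normalizer ((P ⊓ M : Subgroup Γ) : Set Γ) ≤ L)
    (hU : ∀ r : ℕ, r.Prime → r ≠ p → ∀ U ≤ M, A ≤ normalizer (U : Set Γ) → IsPGroup r U →
      M ≤ normalizer (U : Set Γ) → U ≤ L) : M ≤ L := by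
  obtain ⟨hWM, hWA, -⟩ := hP.normalized h hM hMA hMs
  have hS := hP.inf h hM hMA
  have hPL : P ⊓ M ≤ L := (le_inf inf_le_right le_normalizer).trans hN
  have hW : ⁅M, M⁆ ≤ L := by
    refine le_of_sylows fun r hr => ?_
    haveI := Fact.mk hr
    obtain ⟨R, hR⟩ := h.exists_Syl r
    have hRW := hR.inf h (hWM.trans hM) hWA
    refine ⟨_, hRW.le, hRW.ndvd, ?_⟩
    by_cases hrp : r = p
    · subst hrp
      exact (hS.max _ (hRW.le.trans hWM) hRW.pgroup hRW.inv).trans hPL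
    · exact hU r hr hrp _ (hRW.le.trans hWM) hRW.inv hRW.pgroup (hR.normalized h hM hMA hMs).2.2
  have hTM : (P ⊓ M) ⊔ ⁅M, M⁆ ≤ M := sup_le inf_le_right hWM
  have hTn : M ≤ normalizer (((P ⊓ M) ⊔ ⁅M, M⁆ : Subgroup Γ) : Set Γ) := by
    rw [le_normalizer_iff]
    intro m hm x hx
    have hxM : x ∈ M := hTM hx
    rw [show m * x * m⁻¹ = ⁅m, x⁆ * x by rw [commutatorElement_def]; group]
    exact mul_mem (mem_sup_right (commutator_mem_commutator hm hxM)) hx
  have hidx : ¬ p ∣ (P ⊓ M).relIndex ((P ⊓ M) ⊔ ⁅M, M⁆) := fun hd =>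
    hS.ndvd (hd.trans (Dvd.intro _ (relIndex_mul_relIndex _ _ M le_sup_left hTM)))
  exact (frattini_le le_sup_left hTM hTn hS.pgroup hidx).trans (sup_le hN (sup_le hPL hW))

end CfsgLib.AbelianCent
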