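import Cfsg.Agent.Lib.AbelianCent.Frat

/-!
# The moved part of a Sylow subgroup centralises the coprime subgroups it normalises
-/

set_option autoImplicit false
set_option linter.all false

namespace CfsgLib.AbelianCent

open Subgroup
open scoped commutatorElement

universe u

variable {Γ : Type u} [Group Γ] [Finite Γ] {A G : Subgroup Γ} {q : ℕ}

/-- An invariant `p`-subgroup moved entirely by an invariant coprime operator group with abelian action. -/
structure Pair (A G : Subgroup Γ) (p : ℕ) (B K : Subgroup Γ) : Prop where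
  prime : p.Prime
  le : B ≤ G
  inv : A ≤ normalizer (B : Set Γ)
  pgroup : IsPGroup p B
  ne : B ≠ ⊥
  kle : K ≤ G
  kinv : A ≤ normalizer (K : Set Γ)
  knorm : K ≤ normalizer (B : Set Γ)
  kcop : (Nat.card K).Coprime (Nat.card B)
  eq : ⁅B, K⁆ = B
  kcomm : ⁅K, K⁆ ≤ centralizer (B : Set Γ)

theorem Pair.centralizes {p : ℕ} {B K : Subgroup Γ} (h : Sys A G q) (hP : Pair A G p B K) (r : ℕ) [Fact r.Prime]
    (hrp : r ≠ p) : ∀ U : Subgroup Γ, U ≤ G → A ≤ normalizer (U : Set Γ) → IsPGroup r U →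
      B ≤ normalizer (U : Set Γ) → B ≤ centralizer (U : Set Γ) := by
  intro U
  induction hn : Nat.card U using Nat.strong_induction_on generalizing U with
  | _ n ih =>
  intro hUG hUA hUr hBU
  haveI := Fact.mk hP.prime
  by_contra hnc
  have hU1 : U ≠ ⊥ := by
    rintro rfl
    exact hnc (le_centralizer_iff.mpr bot_le)
  have hsub : ∀ W : Subgroup Γ, W ≤ U → W ≠ U → A ≤ normalizer (W : Set Γ) → B ≤ normalizer (W : Set Γ) →
      B ≤ centralizer (W : Set Γ) := fun W hW hne h1 h2 =>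
    ih _ (hn ▸ lt_of_le_of_ne (Nat.le_of_dvd Nat.card_pos (card_dvd_of_le hW))
      fun e => hne (Subgroup.eq_of_le_of_card_ge hW e.ge)) W rfl (hW.trans hUG) h1 (hUr.to_le hW) h2
  obtain ⟨N, hNdef⟩ : ∃ N, N = frat U := ⟨_, rfl⟩
  have hNU : N ≤ U := hNdef ▸ frat_le U
  have hNG : N ≤ G := hNU.trans hUG
  have hAN : A ≤ normalizer (N : Set Γ) := hNdef ▸ le_normalizer_frat hUA
  have hBN : B ≤ normalizer (N : Set Γ) := hNdef ▸ le_normalizer_frat hBU
  have hUN : U ≤ normalizer (N : Set Γ) := hNdef ▸ le_normalizer_frat le_normalizer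
  have hb := h.bar hNG hAN
  haveI hVc : IsMulCommutative (bar N U) := isMulCommutative_bar hUN fun a ha b hb' =>
    hNdef ▸ commutator_le_frat hUr (commutator_mem_commutator ha hb')
  have hcopUB : ∀ {X : Subgroup Γ}, IsPGroup p X → (Nat.card X).Coprime (Nat.card U) := fun {X} hX =>
    IsPGroup.coprime_card_of_ne _ _ (Ne.symm hrp) _ _ hX hUr
  have hcop : (Nat.card (bar N B)).Coprime (Nat.card (bar N U)) :=
    IsPGroup.coprime_card_of_ne _ _ (Ne.symm hrp) _ _ (isPGroup_bar hP.pgroup) (isPGroup_bar hUr)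
  obtain ⟨nl, hnl⟩ := pGroup_lc (isPGroup_bar (N := N) hP.pgroup)
  -- trivial on the section gives trivial
  have hburn : ∀ X : Subgroup Γ, X ≤ B → bar N X ≤ centralizer (bar N U : Set (Bar N)) →
      X ≤ centralizer (U : Set Γ) := fun X hX hXc =>
    centralizes_of_frat (hX.trans hBU) (hcopUB (hP.pgroup.to_le hX)) fun x hx u hu => hNdef ▸
      (mkBar_comm (hBN (hX hx)) (hUN hu)).mp
        (mem_centralizer_iff.mp (hXc (mkBar_mem _ hx)) _ (mkBar_mem _ hu)).symm
  -- a single direction acts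
  obtain ⟨c, hc, hc1, hout⟩ : ∃ c ∈ A, c ≠ 1 ∧ ∀ e ∈ A, e ∉ zpowers c → ∀ b ∈ B, b * e = e * b →
      b ∈ centralizer (U : Set Γ) := by
    by_contra hno
    refine hnc (hburn B le_rfl ?_)
    rw [le_centralizer_iff]
    refine typed_cover hb (bar_mono hP.le) (bar_le_normalizer hP.inv) (bar N U) hVc (bar_mono hUG)
      (bar_le_normalizer hUA) (bar_le_normalizer hBU) hcop (hnl.trans_le bot_le) ?_
    rintro W x ⟨hW, hWA, hWB, hx, hx1, hout⟩
    by_cases hpre : pre N W = U
    · exfalso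
      obtain ⟨a, ha, rfl⟩ := (mem_bar hAN).mp hx
      refine hno ⟨a, ha, fun e => hx1 ((mkBar_eq_one _).mpr (e ▸ one_mem N)), fun e he hea b hb' hbe => ?_⟩
      refine hburn (zpowers b) (zpowers_le.mpr hb') ?_ (mem_zpowers b)
      intro z hz
      obtain ⟨z', hz', rfl⟩ := (mem_bar ((zpowers_le.mpr hb').trans hBN)).mp hz
      have hz'e : z' * e = e * z' := by
        obtain ⟨i, rfl⟩ := mem_zpowers_iff.mp hz'
        exact ((show Commute b e from hbe).zpow_left i).eq
      refine centralizer_le (SetLike.coe_subset_coe.mpr ?_) (hout (mkBar N (hAN he)) (mkBar_mem _ he)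
        (h.bar_outside hNG hAN ha he hea)
        ⟨mkBar_mem _ ((zpowers_le.mpr hb') hz'), mem_cent.mpr (mkBar_comm_of _ _ hz'e)⟩)
      intro w hw
      obtain ⟨u, hu, rfl⟩ := (mem_bar hUN).mp hw
      obtain ⟨hu', huW⟩ := mem_pre.mp (hpre.ge hu)
      exact huW
    · have h1 := hsub _ (pre_le hNU hUN hW) hpre (pre_le_normalizer hAN hWA) (pre_le_normalizer hBN hWB)
      refine fun w hw => mem_centralizer_iff.mpr fun y hy => ?_
      obtain ⟨u, hu, rfl⟩ := (mem_bar (N := N) (fun u hu => (mem_pre.mp hu).1)).mp (le_bar_pre hw)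
      obtain ⟨b, hb', rfl⟩ := (mem_bar hBN).mp hy
      exact mkBar_comm_of _ _ (mem_centralizer_iff.mp (h1 hb') u hu).symm
  obtain ⟨C0, hC0⟩ : ∃ C0, C0 = B ⊓ centralizer (U : Set Γ) := ⟨_, rfl⟩
  have hBB : ⁅B, B⁆ ≤ centralizer (U : Set Γ) := by
    refine hburn _ (commutator_le.mpr fun a ha b hb' => commutator_mem_of ha hb') ?_
    rw [← bar_commutator hBN hBN]
    exact commutator_centralizes hb (bar_mono hP.le) (bar_le_normalizer hP.inv) hVc (bar_mono hUG)
      (bar_le_normalizer hUA) (bar_le_normalizer hBU) hcop (hnl.trans_le bot_le)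
  -- no fixed points on the section
  have hVfix : bar N U ⊓ centralizer (bar N B : Set (Bar N)) = ⊥ := by
    have hBV : bar N B ≤ normalizer (bar N U : Set (Bar N)) := bar_le_normalizer hBU
    obtain ⟨V2, hV2⟩ : ∃ V2, V2 = ⁅bar N U, bar N B⁆ := ⟨_, rfl⟩
    have hV2le : V2 ≤ bar N U := hV2 ▸ Core.commutator_le_of_normalizes hBV
    have hV2A : bar N A ≤ normalizer (V2 : Set (Bar N)) :=
      hV2 ▸ le_normalizer_commutator (bar_le_normalizer hUA) (bar_le_normalizer hP.inv)
    have hV2B : bar N B ≤ normalizer (V2 : Set (Bar N)) :=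
      hV2 ▸ le_normalizer_commutator hBV le_normalizer
    have hsolv : Group.IsSolvable ↥(bar N U) := Group.isSolvable_of_comm fun a b => hVc.is_comm.comm a b
    have hfull : bar N U ≤ V2 := by
      by_cases hpre : pre N V2 = U
      · intro w hw
        obtain ⟨u, hu, rfl⟩ := (mem_bar hUN).mp hw
        obtain ⟨hu', huW⟩ := mem_pre.mp (hpre.ge hu)
        exact huW
      · exfalso
        have h1 := hsub _ (pre_le hNU hUN hV2le) hpre (pre_le_normalizer hAN hV2A) (pre_le_normalizer hBN hV2B)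
        have h2 : ⁅V2, bar N B⁆ = ⊥ := by
          rw [eq_bot_iff, commutator_le]
          intro w hw y hy
          obtain ⟨u, hu, rfl⟩ := (mem_bar (N := N) (fun u hu => (mem_pre.mp hu).1)).mp (le_bar_pre hw)
          obtain ⟨b, hb', rfl⟩ := (mem_bar hBN).mp hy
          exact mem_bot.mpr (commutatorElement_eq_one_iff_mul_comm.mpr
            (mkBar_comm_of _ _ (mem_centralizer_iff.mp (h1 hb') u hu)))
        have h3 := Core.commutator_commutator_eq hBV hcop (Or.inr hsolv)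
        rw [← hV2, h2] at h3
        refine hnc (hburn B le_rfl ?_)
        rw [le_centralizer_iff, ← commutator_eq_bot_iff_le_centralizer, ← hV2, ← h3]
    have h4 := Core.abelian_inf_eq_bot hBV hcop
    rw [← hV2, inf_of_le_left (inf_le_left.trans hfull)] at h4
    exact h4
  have hC0n : ∀ x ∈ A, x ≠ 1 → x ∉ zpowers c → ∀ k ∈ K, k * x = x * k → ∀ g ∈ C0, k * g * k⁻¹ ∈ C0 := by
    intro x hx hx1 hxc k hk hkx g hg
    rw [hC0] at hg ⊢
    have hgB : k * g * k⁻¹ ∈ B := Core.conj_mem_of_le_normalizer hP.knorm hk hg.1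
    refine ⟨hgB, hburn (zpowers (k * g * k⁻¹)) (zpowers_le.mpr hgB) ?_ (mem_zpowers _)⟩
    have hfixU : ∀ u ∈ U, u * x = x * u → (k * g * k⁻¹) * u * (k * g * k⁻¹)⁻¹ = u := by
      intro u hu hux
      have hku : k * u = u * k := h.ab x hx hx1 k (hP.kle hk) u (hUG hu) hkx hux
      have hgu : u * g = g * u := mem_centralizer_iff.mp hg.2 u hu
      calc (k * g * k⁻¹) * u * (k * g * k⁻¹)⁻¹ = k * (g * (k⁻¹ * (u * k)) * g⁻¹) * k⁻¹ := by group
        _ = k * (g * u * g⁻¹) * k⁻¹ := by rw [← hku, inv_mul_cancel_left]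
        _ = k * u * k⁻¹ := by rw [← hgu, mul_inv_cancel_right]
        _ = u := by rw [hku, mul_inv_cancel_right]
    have hg' := hBN hgB
    suffices hs : bar N U ≤ centralizer ({mkBar N hg'} : Set (Bar N)) by
      intro z hz
      obtain ⟨z', hz', rfl⟩ := (mem_bar ((zpowers_le.mpr hgB).trans hBN)).mp hz
      obtain ⟨i, rfl⟩ := mem_zpowers_iff.mp hz'
      refine mem_centralizer_iff.mpr fun w hw => ?_
      have hcm : Commute w (mkBar N hg') := mem_cent.mp (hs hw)
      have e : mkBar N ((zpowers_le.mpr hgB).trans hBN hz') = mkBar N hg' ^ i := by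
        rw [mkBar, mkBar, ← map_zpow]; rfl
      rw [e]
      exact (hcm.zpow_right i).eq
    have hcc : mkBar N (hAN hc) ∈ bar N A := mkBar_mem _ hc
    refine le_of_translates (Z := bar N B ⊓ centralizer ({mkBar N (hAN hc)} : Set (Bar N)))
      (inf_le_left.trans (bar_le_normalizer hBU)) (hcop.coprime_dvd_left (card_dvd_of_le inf_le_left))
      (fun v hv hall => ?_) (bar_le_normalizer hUA (mkBar_mem (hAN hx) hx))
      ((hb.inf_cent_le_normalizer hcc (bar_le_normalizer hP.inv)) (mkBar_mem (hAN hx) hx))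
      h.prime.pos (hb.exp _ (mkBar_mem (hAN hx) hx))
      (free_of hb (inf_le_left.trans (bar_mono hP.le)) hcc (h.mkBar_ne_one hNG hAN hc hc1) (mkBar_mem (hAN hx) hx)
        (h.bar_outside hNG hAN hc hx hxc) inf_le_right) fun z hz w hw hwx => ?_
    · -- fixed points
      have hvC : bar N B ≤ centralizer ({v} : Set (Bar N)) := hb.gen (bar_mono hP.le) (bar_le_normalizer hP.inv)
        fun e he he1 y hy => mem_cent.mpr ?_
      · exact mem_bot.mp (hVfix.le ⟨hv, mem_centralizer_iff.mpr fun y hy => mem_cent.mp (hvC hy)⟩)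
      obtain ⟨a, ha, rfl⟩ := (mem_bar hAN).mp he
      by_cases hac : mkBar N (hAN ha) ∈ zpowers (mkBar N (hAN hc))
      · refine hall y ⟨hy.1, cent_zpowers_eq.le ?_⟩
        rw [← hb.zpowers_eq hcc (mkBar_mem _ ha) he1 hac]
        exact cent_zpowers_eq.ge hy.2
      · obtain ⟨b, hb', hba, rfl⟩ := h.bar_lift hNG hP.le hBN hP.inv hAN ha hy.1 (mem_cent.mp hy.2)
        obtain ⟨u, hu, rfl⟩ := (mem_bar hUN).mp hv
        refine mkBar_comm_of _ _ (mem_centralizer_iff.mp (hout a ha (fun hm => hac ?_) b hb' hba) u hu).symm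
        obtain ⟨i, hi⟩ := mem_zpowers_iff.mp hm
        refine mem_zpowers_iff.mpr ⟨i, ?_⟩
        rw [mkBar, mkBar, ← map_zpow]
        exact congrArg _ (Subtype.ext hi)
    · obtain ⟨u, hu, hux, rfl⟩ := h.bar_lift hNG hUG hUN hUA hAN hx hw hwx
      obtain ⟨b, hb', rfl⟩ := (mem_bar hBN).mp hz.1
      refine mem_cent.mpr ?_
      obtain ⟨g', hg'd⟩ : ∃ g', g' = k * g * k⁻¹ := ⟨_, rfl⟩
      have hbu : b * u * b⁻¹ ∈ U := (mem_normalizer_iff.mp (hBU hb') u).mp hu
      have hcm : ⁅g', b⁆ * (b * u * b⁻¹) = (b * u * b⁻¹) * ⁅g', b⁆ :=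
        (mem_centralizer_iff.mp (hBB (commutator_mem_commutator (hg'd ▸ hgB) hb')) _ hbu).symm
      have e2 : g' * (b * u * b⁻¹) = (b * u * b⁻¹) * g' := by
        refine mul_inv_eq_iff_eq_mul.mp ?_
        calc g' * (b * u * b⁻¹) * g'⁻¹ = ⁅g', b⁆ * (b * (g' * u * g'⁻¹) * b⁻¹) * ⁅g', b⁆⁻¹ := by
              rw [commutatorElement_def]; group
          _ = b * u * b⁻¹ := by rw [hg'd, hfixU u hu hux, ← hg'd, hcm, mul_inv_cancel_right]
      have := mkBar_comm_of (N := N) (hUN hbu) (hg'd ▸ hg') e2.symm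
      subst hg'd
      exact this
  -- growing to all of `B`
  have hC0B : C0 ≤ B := hC0 ▸ inf_le_left
  refine hnc (le_trans ?_ (hC0 ▸ inf_le_right : C0 ≤ centralizer (U : Set Γ)))
  refine eq_of_sup_frat hC0B ?_
  obtain ⟨F, hF⟩ : ∃ F, F = frat B := ⟨_, rfl⟩
  rw [← hF]
  have hBF : B ≤ normalizer (F : Set Γ) := hF ▸ le_normalizer_frat le_normalizer
  have hAF : A ≤ normalizer (F : Set Γ) := hF ▸ le_normalizer_frat hP.inv
  have hKF : K ≤ normalizer (F : Set Γ) := hF ▸ le_normalizer_frat hP.knorm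
  have hFG : F ≤ G := hF ▸ (frat_le B).trans hP.le
  refine le_sup_of_bar_le hBF (hC0B.trans hBF) ?_
  have hb' := h.bar hFG hAF
  haveI hBc : IsMulCommutative (bar F B) := isMulCommutative_bar hBF fun a ha b hbb =>
    hF ▸ commutator_le_frat hP.pgroup (commutator_mem_commutator ha hbb)
  have hcop' : (Nat.card (bar F K)).Coprime (Nat.card (bar F B)) :=
    (hP.kcop.coprime_dvd_left (card_bar_dvd hKF)).coprime_dvd_right (card_bar_dvd hBF)
  have hfix : bar F B ⊓ centralizer (bar F K : Set (Bar F)) = ⊥ := by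
    have h4 := Core.abelian_inf_eq_bot (bar_le_normalizer hP.knorm) hcop'
    rwa [bar_commutator hBF hKF, hP.eq, inf_of_le_left inf_le_left] at h4
  refine le_of_outside hb' (bar_mono hP.kle) (bar_le_normalizer hP.kinv) (n := 1) hBc (bar_mono hP.le)
    (bar_le_normalizer hP.inv) (bar_le_normalizer hP.knorm) hcop' ?_ hfix (mkBar_mem (hAF hc) hc)
    (h.mkBar_ne_one hFG hAF hc hc1) (fun e he hec y hy => ?_) (fun e he he1 hec y hy => ?_)
  · rw [Subgroup.lowerCentralSeries_succ, Subgroup.lowerCentralSeries_zero, bar_commutator hKF hKF]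
    intro y hy
    obtain ⟨k, hk, rfl⟩ := (mem_bar ((commutator_mono hKF hKF).trans
      (commutator_le.mpr fun a ha b hb => commutator_mem_of ha hb))).mp hy
    refine mem_centralizer_iff.mpr fun w hw => ?_
    obtain ⟨b, hbb, rfl⟩ := (mem_bar hBF).mp hw
    exact mkBar_comm_of _ _ (mem_centralizer_iff.mp (hP.kcomm hk) b hbb)
  · obtain ⟨a, ha, rfl⟩ := (mem_bar hAF).mp he
    obtain ⟨b, hbb, hba, rfl⟩ := h.bar_lift hFG hP.le hBF hP.inv hAF ha hy.1 (mem_cent.mp hy.2)
    refine mkBar_mem _ (hC0 ▸ ⟨hbb, hout a ha (fun hm => hec ?_) b hbb hba⟩)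
    obtain ⟨i, hi⟩ := mem_zpowers_iff.mp hm
    refine mem_zpowers_iff.mpr ⟨i, ?_⟩
    rw [mkBar, mkBar, ← map_zpow]
    exact congrArg _ (Subtype.ext hi)
  · obtain ⟨a, ha, rfl⟩ := (mem_bar hAF).mp he
    obtain ⟨k, hk, hka, rfl⟩ := h.bar_lift hFG hP.kle hKF hP.kinv hAF ha hy.1 (mem_cent.mp hy.2)
    have ha1 : a ≠ 1 := fun e => he1 ((mkBar_eq_one _).mpr (e ▸ one_mem F))
    have hac : a ∉ zpowers c := fun hm => hec (by
      obtain ⟨i, hi⟩ := mem_zpowers_iff.mp hm
      refine mem_zpowers_iff.mpr ⟨i, ?_⟩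
      rw [mkBar, mkBar, ← map_zpow]
      exact congrArg _ (Subtype.ext hi))
    have hkn : k ∈ normalizer (C0 : Set Γ) := mem_normalizer_of_both (hC0n a ha ha1 hac k hk hka) fun g hg => by
      have := hC0n a ha ha1 hac k⁻¹ (inv_mem hk) (show Commute k a from hka).inv_left.eq g hg
      rwa [inv_inv] at this
    exact bar_le_normalizer (X := zpowers k) (zpowers_le.mpr hkn) (mkBar_mem _ (mem_zpowers k))

end CfsgLib.AbelianCent
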