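import Cfsg.Agent.Lib.AbelianCent.LemmaA
import Cfsg.Agent.Lib.Signalizer.Solvable.Hall

/-!
# The local subgroups of a minimal insolvable configuration
-/

set_option autoImplicit false
set_option linter.all false

namespace CfsgLib.AbelianCent

open Subgroup
open scoped commutatorElement

universe u

variable {Γ : Type u} [Group Γ] [Finite Γ] {A G : Subgroup Γ} {q : ℕ}

/-- A minimal insolvable configuration. -/
structure Main (A G : Subgroup Γ) (q : ℕ) : Prop where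
  sys : Sys A G q
  solv : ∀ X ≤ G, A ≤ normalizer (X : Set Γ) → X ≠ G → Group.IsSolvable X
  simple : ∀ X ≤ G, A ≤ normalizer (X : Set Γ) → G ≤ normalizer (X : Set Γ) → X ≠ G → X = ⊥
  ns : ¬ Group.IsSolvable G

theorem centralizes_of_disjoint {X Y : Subgroup Γ} (hYX : Y ≤ normalizer (X : Set Γ)) (hXY : X ≤ normalizer (Y : Set Γ))
    (hd : X ⊓ Y = ⊥) : X ≤ centralizer (Y : Set Γ) := by
  rw [← commutator_eq_bot_iff_le_centralizer, eq_bot_iff, ← hd]
  exact le_inf (Core.commutator_le_of_normalizes hYX)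
    (commutator_comm Y X ▸ Core.commutator_le_of_normalizes hXY)

theorem isSolvable_pGroup {p : ℕ} [Fact p.Prime] {X : Subgroup Γ} (hX : IsPGroup p X) : Group.IsSolvable X :=
  haveI := hX.isNilpotent
  inferInstance

theorem Sys.normalizer_inv {X : Subgroup Γ} (h : Sys A G q) (hX : A ≤ normalizer (X : Set Γ)) :
    A ≤ normalizer ((G ⊓ normalizer (X : Set Γ) : Subgroup Γ) : Set Γ) :=
  (le_inf h.norm (hX.trans le_normalizer)).trans inf_normalizer_le_normalizer_inf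

theorem Sys.centralizer_inv {X : Subgroup Γ} (h : Sys A G q) (hX : A ≤ normalizer (X : Set Γ)) :
    A ≤ normalizer ((G ⊓ centralizer (X : Set Γ) : Subgroup Γ) : Set Γ) :=
  (le_inf h.norm (hX.trans (Signalizer.normalizer_le_normalizer_centralizer_set X))).trans
    inf_normalizer_le_normalizer_inf

namespace Main

variable (hm : Main A G q)
include hm

theorem normalizer_ne {X : Subgroup Γ} (hXG : X ≤ G) (hXA : A ≤ normalizer (X : Set Γ)) (hX1 : X ≠ ⊥)
    (hXs : Group.IsSolvable X) : G ⊓ normalizer (X : Set Γ) ≠ G := fun e =>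
  hX1 (hm.simple X hXG hXA (e.ge.trans inf_le_right) fun e' => hm.ns (e' ▸ hXs))

theorem normalizer_solv {X : Subgroup Γ} (hXG : X ≤ G) (hXA : A ≤ normalizer (X : Set Γ)) (hX1 : X ≠ ⊥)
    (hXs : Group.IsSolvable X) : Group.IsSolvable ↥(G ⊓ normalizer (X : Set Γ)) :=
  hm.solv _ inf_le_left (hm.sys.normalizer_inv hXA) (hm.normalizer_ne hXG hXA hX1 hXs)

theorem centralizer_solv {X : Subgroup Γ} (hXG : X ≤ G) (hXA : A ≤ normalizer (X : Set Γ)) (hX1 : X ≠ ⊥)
    (hXs : Group.IsSolvable X) : Group.IsSolvable ↥(G ⊓ centralizer (X : Set Γ)) :=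
  Core.isSolvable_of_le (hm.normalizer_solv hXG hXA hX1 hXs) (inf_le_inf_left _ (centralizer_le_normalizer _))

end Main

/-- An invariant complement of a normal Sylow subgroup. -/
theorem Syl.exists_complement (h : Sys A G q) {p : ℕ} [Fact p.Prime] {P M : Subgroup Γ} (hP : Syl A G p P) (hMG : M ≤ G)
    (hMA : A ≤ normalizer (M : Set Γ)) (hMs : Group.IsSolvable M) (hPM : P ≤ M) (hn : M ≤ normalizer (P : Set Γ)) :
    ∃ K, K ≤ M ∧ A ≤ normalizer (K : Set Γ) ∧ (Nat.card K).Coprime (Nat.card P) ∧ ¬ p ∣ Nat.card K ∧ M ≤ P ⊔ K ∧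
      ⁅K, K⁆ ≤ centralizer (P : Set Γ) := by
  have hp : p.Prime := Fact.out
  haveI := hMs
  obtain ⟨K, hKM, hKA, hK1, hK2⟩ :=
    CfsgLib.Signalizer.Solv.exists_invariant_hall hMA (h.coprime hMG) {s : ℕ | s ≠ p}
  have hKp : ¬ p ∣ Nat.card K := fun hd => hK1 p hp hd rfl
  obtain ⟨k, hk⟩ := IsPGroup.iff_card.mp hP.pgroup
  have hcop : (Nat.card K).Coprime (Nat.card P) :=
    hk ▸ (((Nat.Prime.coprime_iff_not_dvd hp).mpr hKp).symm.pow_right k)
  refine ⟨K, hKM, hKA, hcop, hKp, le_of_sylows fun r hr => ?_, ?_⟩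
  · by_cases hrp : r = p
    · subst hrp
      exact ⟨P, hPM, fun hd => hP.ndvd (hd.trans (Dvd.intro _ (relIndex_mul_relIndex P M G hPM hMG))), le_sup_left⟩
    · exact ⟨K, hKM, hK2 r hr hrp, le_sup_right⟩
  obtain ⟨hWM, hWA, hPW⟩ := hP.normalized h hMG hMA hMs
  obtain ⟨K', hK'⟩ : ∃ K', K' = ⁅K, K⁆ := ⟨_, rfl⟩
  have hK'K : K' ≤ K := hK' ▸ commutator_le.mpr fun a ha b hb => commutator_mem_of ha hb
  have hK'W : K' ≤ ⁅M, M⁆ := hK' ▸ commutator_mono hKM hKM
  have hK'P : K' ≤ normalizer (P : Set Γ) := (hK'K.trans hKM).trans hn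
  have hc1 : K' ≤ centralizer ((P ⊓ ⁅M, M⁆ : Subgroup Γ) : Set Γ) := by
    refine le_of_sylows fun r hr => ?_
    haveI := Fact.mk hr
    obtain ⟨R, hR⟩ := h.exists_Syl r
    have hS := hR.inf h ((hK'K.trans hKM).trans hMG) (hK' ▸ le_normalizer_commutator hKA hKA)
    refine ⟨_, hS.le, hS.ndvd, ?_⟩
    by_cases hrp : r = p
    · subst hrp
      have : R ⊓ K' = ⊥ := by
        obtain ⟨j, hj⟩ := IsPGroup.iff_card.mp hS.pgroup
        refine card_eq_one.mp ?_
        rw [hj]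
        rcases Nat.eq_zero_or_pos j with h0 | hpos
        · rw [h0, pow_zero]
        · exact absurd ((dvd_pow_self r hpos.ne').trans (hj ▸ card_dvd_of_le (hS.le.trans hK'K))) hKp
      rw [this]
      exact bot_le
    · have hRW := hR.normalized h hMG hMA hMs
      refine le_trans (le_inf inf_le_left (hS.le.trans hK'W) : R ⊓ K' ≤ R ⊓ ⁅M, M⁆) ?_
      refine centralizes_of_disjoint ((inf_le_right.trans hWM).trans hRW.2.2) ((inf_le_right.trans hWM).trans hPW) ?_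
      exact Subgroup.inf_eq_bot_of_coprime (IsPGroup.coprime_card_of_ne _ _ hrp _ _
        (hR.pgroup.to_le inf_le_left) (hP.pgroup.to_le inf_le_left))
  have hD : ⁅⁅P, K'⁆, K'⁆ = ⊥ := by
    rw [commutator_eq_bot_iff_le_centralizer, le_centralizer_iff]
    exact hc1.trans (centralizer_le (SetLike.coe_subset_coe.mpr
      (le_inf (Core.commutator_le_of_normalizes hK'P) (commutator_mono hPM (hK'K.trans hKM)))))
  rw [Core.commutator_commutator_eq hK'P (hcop.coprime_dvd_left (card_dvd_of_le hK'K))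
    (Or.inr (isSolvable_pGroup hP.pgroup)), commutator_eq_bot_iff_le_centralizer, le_centralizer_iff] at hD
  exact hK' ▸ hD

/-- The moved part of a Sylow subgroup. -/
theorem Syl.exists_pair (h : Sys A G q) {p : ℕ} [Fact p.Prime] {P M : Subgroup Γ} (hP : Syl A G p P) (hMG : M ≤ G)
    (hMA : A ≤ normalizer (M : Set Γ)) (hMs : Group.IsSolvable M) (hPM : P ≤ M) (hn : M ≤ normalizer (P : Set Γ)) :
    ∃ K, K ≤ M ∧ A ≤ normalizer (K : Set Γ) ∧ ¬ p ∣ Nat.card K ∧ M ≤ P ⊔ K ∧ ⁅K, K⁆ ≤ centralizer (P : Set Γ) ∧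
      (K ≤ centralizer (P : Set Γ) ∨
        ∃ B, B ≤ P ∧ Pair A G p B K ∧ M ≤ normalizer (B : Set Γ)) := by
  obtain ⟨K, hKM, hKA, hcop, hKp, hsup, hKc⟩ := hP.exists_complement h hMG hMA hMs hPM hn
  refine ⟨K, hKM, hKA, hKp, hsup, hKc, ?_⟩
  by_cases hc : K ≤ centralizer (P : Set Γ)
  · exact Or.inl hc
  have hKP : K ≤ normalizer (P : Set Γ) := hKM.trans hn
  have hBP : ⁅P, K⁆ ≤ P := Core.commutator_le_of_normalizes hKP
  refine Or.inr ⟨⁅P, K⁆, hBP, ⟨Fact.out, hBP.trans hP.le, le_normalizer_commutator hP.inv hKA,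
    hP.pgroup.to_le hBP, fun e => hc (le_centralizer_iff.mp (commutator_eq_bot_iff_le_centralizer.mp e)),
    hKM.trans hMG, hKA, le_sup_right.trans (Core.le_normalizer_commutator_self K P),
    hcop.coprime_dvd_right (card_dvd_of_le hBP),
    Core.commutator_commutator_eq hKP hcop (Or.inr (isSolvable_pGroup hP.pgroup)),
    hKc.trans (centralizer_le (SetLike.coe_subset_coe.mpr hBP))⟩,
    hsup.trans (Core.le_normalizer_commutator_self K P)⟩

/-- A prime with its moved part. -/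
structure Loc (A G : Subgroup Γ) (p : ℕ) (P B K : Subgroup Γ) : Prop where
  syl : Syl A G p P
  le : B ≤ P
  pair : Pair A G p B K
  norm : G ⊓ normalizer (P : Set Γ) ≤ normalizer (B : Set Γ)

namespace Loc

variable {p : ℕ} {P B K : Subgroup Γ} (hm : Main A G q) (hl : Loc A G p P B K)
include hm hl

theorem solv : Group.IsSolvable ↥(G ⊓ normalizer (B : Set Γ)) :=
  haveI := Fact.mk hl.pair.prime
  hm.normalizer_solv hl.pair.le hl.pair.inv hl.pair.ne (isSolvable_pGroup hl.pair.pgroup)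

theorem inv : A ≤ normalizer ((G ⊓ normalizer (B : Set Γ) : Subgroup Γ) : Set Γ) :=
  hm.sys.normalizer_inv hl.pair.inv

theorem sylow_le : P ≤ G ⊓ normalizer (B : Set Γ) :=
  le_inf hl.syl.le ((le_inf hl.syl.le le_normalizer).trans hl.norm)

/-- Reaching the Sylow normaliser. -/
theorem le_of {D : Subgroup Γ} (hDP : D ≤ P) (hDA : A ≤ normalizer (D : Set Γ)) (hD1 : D ≠ ⊥)
    (hCD : G ⊓ centralizer (D : Set Γ) ≤ normalizer (B : Set Γ)) :
    ∀ M : Subgroup Γ, M ≤ G → A ≤ normalizer (M : Set Γ) → Group.IsSolvable M → D ≤ M →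
      (∀ r : ℕ, r.Prime → r ≠ p → ∀ U ≤ M, A ≤ normalizer (U : Set Γ) → IsPGroup r U →
        M ≤ normalizer (U : Set Γ) → U ≤ normalizer (B : Set Γ)) → M ≤ normalizer (B : Set Γ) := by
  haveI := Fact.mk hl.pair.prime
  intro M
  induction hn : Nat.card P - Nat.card ↥(P ⊓ M) using Nat.strong_induction_on generalizing M with
  | _ n ih =>
  intro hMG hMA hMs hDM hU
  refine hl.syl.le_of_frattini hm.sys hMG hMA hMs ?_ hU
  by_cases hPM : P ⊓ M = P
  · rw [hPM]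
    exact (inf_le_inf_right _ hMG).trans hl.norm
  obtain ⟨R, hR⟩ : ∃ R, R = P ⊓ M := ⟨_, rfl⟩
  rw [← hR] at hPM hn ⊢
  have hRP : R ≤ P := hR ▸ inf_le_left
  have hDR : D ≤ R := hR ▸ le_inf hDP hDM
  have hRA : A ≤ normalizer (R : Set Γ) := hR ▸ (hl.syl.inf hm.sys hMG hMA).inv
  have hR1 : R ≠ ⊥ := fun e => hD1 (le_bot_iff.mp (e ▸ hDR))
  have hRG : R ≤ G := hRP.trans hl.syl.le
  obtain ⟨M2, hM2⟩ : ∃ M2, M2 = G ⊓ normalizer (R : Set Γ) := ⟨_, rfl⟩
  refine le_trans ((inf_le_inf_right _ hMG).trans hM2.ge) ?_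
  have hRM2 : R ≤ M2 := hM2 ▸ le_inf hRG le_normalizer
  have hlt : Nat.card R < Nat.card ↥(P ⊓ M2) := by
    refine lt_of_le_of_ne (Nat.le_of_dvd Nat.card_pos (card_dvd_of_le (le_inf hRP hRM2))) fun e => ?_
    have e' : R = P ⊓ M2 := Subgroup.eq_of_le_of_card_ge (le_inf hRP hRM2) e.ge
    haveI := hl.syl.pgroup.isNilpotent
    have hne : R.subgroupOf P ≠ ⊤ := fun ht => hPM (le_antisymm hRP (subgroupOf_eq_top.mp ht))
    obtain ⟨x, hx, hxR⟩ := SetLike.exists_of_lt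
      (normalizerCondition_of_isNilpotent (R.subgroupOf P) hne.lt_top)
    refine hxR (mem_subgroupOf.mpr (e'.ge ⟨x.2, hM2 ▸ ⟨hl.syl.le x.2, ?_⟩⟩))
    refine mem_normalizer_of_both (fun g hg => ?_) (fun g hg => ?_)
    · exact mem_subgroupOf.mp ((mem_normalizer_iff.mp hx ⟨g, hRP hg⟩).mp (mem_subgroupOf.mpr hg))
    · have := (mem_normalizer_iff.mp (inv_mem hx) ⟨g, hRP hg⟩).mp (mem_subgroupOf.mpr hg)
      simpa [mem_subgroupOf] using this
  have hle := Nat.le_of_dvd Nat.card_pos (card_dvd_of_le (inf_le_left : P ⊓ M2 ≤ P))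
  refine ih _ (by omega) M2 rfl (hM2 ▸ inf_le_left) (hM2 ▸ hm.sys.normalizer_inv hRA)
    (hM2 ▸ hm.normalizer_solv hRG hRA hR1 (isSolvable_pGroup (hl.syl.pgroup.to_le hRP))) (hDR.trans hRM2)
    fun r hr hrp U hUM hUA hUr hMU => ?_
  haveI := Fact.mk hr
  have hUR : U ≤ centralizer (R : Set Γ) := centralizes_of_disjoint (hRM2.trans hMU)
    (hUM.trans (hM2.le.trans inf_le_right))
    (Subgroup.inf_eq_bot_of_coprime (IsPGroup.coprime_card_of_ne _ _ hrp _ _ hUr (hl.syl.pgroup.to_le hRP)))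
  exact (le_inf (hUM.trans (hM2.le.trans inf_le_left))
    (hUR.trans (centralizer_le (SetLike.coe_subset_coe.mpr hDR)))).trans hCD

/-- Every invariant solvable subgroup containing the moved part normalises it. -/
theorem mem_of_ge {M : Subgroup Γ} (hMG : M ≤ G) (hMA : A ≤ normalizer (M : Set Γ)) (hMs : Group.IsSolvable M)
    (hBM : B ≤ M) : M ≤ normalizer (B : Set Γ) :=
  le_of hm hl hl.le hl.pair.inv hl.pair.ne (inf_le_right.trans (centralizer_le_normalizer _)) M hMG hMA hMs hBM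
    fun r hr hrp U hUM hUA hUr hMU =>
      haveI := Fact.mk hr
      (le_centralizer_iff.mp (hl.pair.centralizes hm.sys r hrp U (hUM.trans hMG) hUA hUr (hBM.trans hMU))).trans
        (centralizer_le_normalizer _)

/-- All but one direction has its centraliser in the local subgroup. -/
theorem exists_good : ∃ c ∈ A, c ≠ 1 ∧ ∀ e ∈ A, e ∉ zpowers c →
    G ⊓ centralizer ({e} : Set Γ) ≤ normalizer (B : Set Γ) ∧ ∃ x ∈ P, x ≠ 1 ∧ x * e = e * x := by
  haveI := Fact.mk hl.pair.prime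
  have h := hm.sys
  have hp := hl.pair
  obtain ⟨Z1, hZ1⟩ : ∃ Z1, Z1 = B ⊓ centralizer (B : Set Γ) := ⟨_, rfl⟩
  have hZB : Z1 ≤ B := hZ1 ▸ inf_le_left
  have hBZ : B ≤ centralizer (Z1 : Set Γ) := le_centralizer_iff.mp (hZ1 ▸ inf_le_right)
  have hZcomm : ∀ z ∈ Z1, ∀ b ∈ B, z * b = b * z := fun z hz b hb =>
    mem_centralizer_iff.mp (hBZ hb) z hz
  have hZn : normalizer (B : Set Γ) ≤ normalizer (Z1 : Set Γ) := hZ1 ▸
    (le_inf le_rfl (Signalizer.normalizer_le_normalizer_centralizer_set B)).trans inf_normalizer_le_normalizer_inf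
  have hZA : A ≤ normalizer (Z1 : Set Γ) := hp.inv.trans hZn
  haveI hBnil := hp.pgroup.isNilpotent
  have hZne : Z1 ≠ ⊥ := by
    have hB1 : (⊤ : Subgroup B) ≠ ⊥ := fun e => hp.ne (by
      rw [eq_bot_iff]
      intro b hb
      have := e.le (mem_top (⟨b, hb⟩ : B))
      exact mem_bot.mpr (congrArg Subtype.val (mem_bot.mp this)))
    obtain ⟨⟨z, hz⟩, hz1⟩ := Subgroup.ne_bot_iff_exists_ne_one.mp (Core.inf_center_ne_bot_of_isNilpotent ⊤ hB1)
    intro e
    refine hz1 (Subtype.ext (Subtype.ext (mem_bot.mp (e.le ?_))))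
    rw [hZ1]
    exact ⟨z.2, mem_centralizer_iff.mpr fun b hb => congrArg Subtype.val (mem_center_iff.mp hz.2 ⟨b, hb⟩)⟩
  -- the second centre
  let Y : Subgroup Γ :=
    { carrier := {y | y ∈ B ∧ ∀ b ∈ B, ⁅y, b⁆ ∈ Z1}
      one_mem' := ⟨one_mem _, fun b _ => by rw [commutatorElement_one_left]; exact one_mem _⟩
      mul_mem' := fun {a a'} ha ha' => ⟨mul_mem ha.1 ha'.1, fun b hb => by
        rw [show ⁅a * a', b⁆ = a * ⁅a', b⁆ * a⁻¹ * ⁅a, b⁆ by simp only [commutatorElement_def]; group]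
        exact mul_mem ((mem_normalizer_iff.mp ((hBZ.trans (centralizer_le_normalizer _)) ha.1) _).mp (ha'.2 b hb))
          (ha.2 b hb)⟩
      inv_mem' := fun {a} ha => ⟨inv_mem ha.1, fun b hb => by
        rw [show ⁅a⁻¹, b⁆ = a⁻¹ * ⁅a, b⁆⁻¹ * a⁻¹⁻¹ by simp only [commutatorElement_def]; group]
        exact (mem_normalizer_iff.mp ((hBZ.trans (centralizer_le_normalizer _)) (inv_mem ha.1)) _).mp
          (inv_mem (ha.2 b hb))⟩ }
  have hYB : Y ≤ B := fun y hy => hy.1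
  have hZY : Z1 ≤ Y := fun z hz => ⟨hZB hz, fun b hb => by
    rw [commutatorElement_eq_one_iff_mul_comm.mpr (hZcomm z hz b hb)]
    exact one_mem _⟩
  have hYn : normalizer (B : Set Γ) ≤ normalizer (Y : Set Γ) := by
    rw [le_normalizer_iff]
    rintro g hg y ⟨hy, hy'⟩
    refine ⟨(mem_normalizer_iff.mp hg y).mp hy, fun b hb => ?_⟩
    have hb' : g⁻¹ * b * g ∈ B := by
      have := (mem_normalizer_iff.mp (inv_mem hg) b).mp hb
      rwa [inv_inv] at this
    rw [show ⁅g * y * g⁻¹, b⁆ = g * ⁅y, g⁻¹ * b * g⁆ * g⁻¹ by simp only [commutatorElement_def]; group]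
    exact (mem_normalizer_iff.mp (hZn hg) _).mp (hy' _ hb')
  have hYK : ⁅Y, K⁆ ≠ ⊥ := by
    intro e
    have hky : ∀ k ∈ K, ∀ y ∈ Y, y * k = k * y := fun k hk y hy =>
      (mem_centralizer_iff.mp (commutator_eq_bot_iff_le_centralizer.mp e hy) k hk).symm
    have hyB : ∀ y ∈ Y, B ≤ centralizer ({y} : Set Γ) := by
      intro y hy
      conv_lhs => rw [← hp.eq]
      rw [commutator_le]
      intro b hb k hk
      refine mem_cent.mpr (commutatorElement_eq_one_iff_mul_comm.mp ?_).symm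
      have hb1 : k * b⁻¹ * k⁻¹ ∈ B := Core.conj_mem_of_le_normalizer hp.knorm hk (inv_mem hb)
      have hz : ⁅y, b⁻¹⁆ ∈ Z1 := hy.2 _ (inv_mem hb)
      have h1 : k * y * k⁻¹ = y := by rw [← hky k hk y hy, mul_inv_cancel_right]
      have h2 : k * ⁅y, b⁻¹⁆ * k⁻¹ = ⁅y, b⁻¹⁆ := by rw [← hky k hk _ (hZY hz), mul_inv_cancel_right]
      have h3 : ⁅y, k * b⁻¹ * k⁻¹⁆ = ⁅y, b⁻¹⁆ := by
        calc ⁅y, k * b⁻¹ * k⁻¹⁆ = ⁅k * y * k⁻¹, k * b⁻¹ * k⁻¹⁆ := by rw [h1]
          _ = k * ⁅y, b⁻¹⁆ * k⁻¹ := by simp only [commutatorElement_def]; group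
          _ = ⁅y, b⁻¹⁆ := h2
      calc ⁅y, ⁅b, k⁆⁆ = ⁅y, b⁆ * (b * ⁅y, k * b⁻¹ * k⁻¹⁆ * b⁻¹) := by simp only [commutatorElement_def]; group
        _ = ⁅y, b * b⁻¹⁆ := by rw [h3]; simp only [commutatorElement_def]; group
        _ = 1 := by rw [mul_inv_cancel, commutatorElement_one_right]
    have hYZ : Y ≤ Z1 := fun y hy => hZ1 ▸ ⟨hy.1, mem_centralizer_iff.mpr fun b hb => mem_cent.mp (hyB y hy hb)⟩
    obtain ⟨n, hn⟩ := pGroup_lc hp.pgroup
    have hdown : ∀ m, B.lowerCentralSeries (m + 2) = ⊥ → B.lowerCentralSeries (m + 1) = ⊥ := by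
      intro m hm
      rw [Subgroup.lowerCentralSeries_succ, commutator_eq_bot_iff_le_centralizer] at hm
      have hB : ∀ i, B.lowerCentralSeries i ≤ B := fun i => Subgroup.lowerCentralSeries_antitone _ (Nat.zero_le i)
      rw [Subgroup.lowerCentralSeries_succ, commutator_eq_bot_iff_le_centralizer]
      refine le_trans (le_trans (fun y hy => ?_) hYZ) (hZ1 ▸ inf_le_right)
      refine ⟨hB m hy, fun b hb => ?_⟩
      have : ⁅y, b⁆ ∈ B.lowerCentralSeries (m + 1) := by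
        rw [Subgroup.lowerCentralSeries_succ]
        exact commutator_mem_commutator hy hb
      rw [hZ1]
      exact ⟨hB _ this, hm this⟩
    have hab : ∀ m, B.lowerCentralSeries (m + 1) = ⊥ → B.lowerCentralSeries 1 = ⊥ := by
      intro m
      induction m with
      | zero => exact id
      | succ m ihm => exact fun hm => ihm (hdown m hm)
    have hB1 : B.lowerCentralSeries 1 = ⊥ :=
      hab n (le_bot_iff.mp ((Subgroup.lowerCentralSeries_antitone _ (Nat.le_succ n)).trans hn.le))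
    rw [Subgroup.lowerCentralSeries_succ, Subgroup.lowerCentralSeries_zero] at hB1
    have hBY : B ≤ Y := fun b hb => ⟨hb, fun b' hb' => by
      rw [mem_bot.mp (hB1.le (commutator_mem_commutator hb hb'))]
      exact one_mem _⟩
    refine hp.ne ?_
    rw [← hp.eq, eq_bot_iff]
    exact (commutator_mono hBY le_rfl).trans e.le
  -- directions in `[Y, K]`
  obtain ⟨V, hV⟩ : ∃ V, V = ⁅Y, K⁆ := ⟨_, rfl⟩
  have hKY : K ≤ normalizer (Y : Set Γ) := hp.knorm.trans hYn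
  have hYA : A ≤ normalizer (Y : Set Γ) := hp.inv.trans hYn
  have hVY : V ≤ Y := hV ▸ Core.commutator_le_of_normalizes hKY
  have hVp : IsPGroup p V := hp.pgroup.to_le (hVY.trans hYB)
  have hcopY : (Nat.card K).Coprime (Nat.card Y) := hp.kcop.coprime_dvd_right (card_dvd_of_le hYB)
  have hVK : ⁅V, K⁆ = V := hV ▸ Core.commutator_commutator_eq hKY hcopY
    (Or.inr (isSolvable_pGroup (hp.pgroup.to_le hYB)))
  have hVA : A ≤ normalizer (V : Set Γ) := hV ▸ le_normalizer_commutator hYA hp.kinv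
  have hKV : K ≤ normalizer (V : Set Γ) := hV ▸ le_normalizer_commutator hKY le_normalizer
  obtain ⟨F, hF⟩ : ∃ F, F = frat V := ⟨_, rfl⟩
  have hVF : V ≤ normalizer (F : Set Γ) := hF ▸ le_normalizer_frat le_normalizer
  have hAF : A ≤ normalizer (F : Set Γ) := hF ▸ le_normalizer_frat hVA
  have hKF : K ≤ normalizer (F : Set Γ) := hF ▸ le_normalizer_frat hKV
  have hVG : V ≤ G := hVY.trans (hYB.trans hp.le)
  have hFG : F ≤ G := hF ▸ (frat_le V).trans hVG
  have hb := h.bar hFG hAF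
  have hVc : IsMulCommutative (bar F V) := isMulCommutative_bar hVF fun a ha b hb =>
    hF ▸ commutator_le_frat hVp (commutator_mem_commutator ha hb)
  have hcop' : (Nat.card (bar F K)).Coprime (Nat.card (bar F V)) :=
    ((hcopY.coprime_dvd_right (card_dvd_of_le hVY)).coprime_dvd_left (card_bar_dvd hKF)).coprime_dvd_right
      (card_bar_dvd hVF)
  have hfix : bar F V ⊓ centralizer (bar F K : Set (Bar F)) = ⊥ := by
    haveI := hVc
    have h4 := Core.abelian_inf_eq_bot (bar_le_normalizer hKV) hcop'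
    rwa [bar_commutator hVF hKF, hVK, inf_of_le_left inf_le_left] at h4
  obtain ⟨x, hx, hx1, hdir⟩ := exists_directions hb (bar_mono hp.kle) (bar_le_normalizer hp.kinv) (n := 1) hVc
    (bar_mono hVG) (bar_le_normalizer hVA) (bar_le_normalizer hKV) hcop' (by
      rw [Subgroup.lowerCentralSeries_succ, Subgroup.lowerCentralSeries_zero, bar_commutator hKF hKF]
      intro y hy
      obtain ⟨k, hk, rfl⟩ := (mem_bar ((commutator_mono hKF hKF).trans
        (commutator_le.mpr fun a ha b hb => commutator_mem_of ha hb))).mp hy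
      refine mem_centralizer_iff.mpr fun w hw => ?_
      obtain ⟨b, hbb, rfl⟩ := (mem_bar hVF).mp hw
      exact mkBar_comm_of _ _ (mem_centralizer_iff.mp (hp.kcomm hk) b (hYB (hVY hbb)))) hfix
    (fun e => hYK (hV ▸ le_bot_iff.mp (eq_of_sup_frat bot_le (by
      rw [← hF]
      refine le_sup_of_bar_le hVF bot_le ?_
      rw [e]
      exact bot_le))))
  obtain ⟨c, hc, rfl⟩ := (mem_bar hAF).mp hx
  refine ⟨c, hc, fun e => hx1 ((mkBar_eq_one _).mpr (e ▸ one_mem F)), fun e he hec => ?_⟩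
  obtain ⟨y, hy, hye, hy1⟩ : ∃ y ∈ Y, y * e = e * y ∧ y ≠ 1 := by
    obtain ⟨⟨w, hw⟩, hw1⟩ := Subgroup.ne_bot_iff_exists_ne_one.mp
      (hdir _ (mkBar_mem (hAF he) he) (h.bar_outside hFG hAF hc he hec))
    obtain ⟨y, hy, hye, rfl⟩ := h.bar_lift hFG hVG hVF hVA hAF he hw.1 (mem_cent.mp hw.2)
    exact ⟨y, hVY hy, hye, fun e => hw1 (Subtype.ext ((mkBar_eq_one _).mpr (e ▸ one_mem F)))⟩
  refine ⟨?_, y, hl.le (hYB hy), hy1, hye⟩
  have he1 : e ≠ 1 := fun e1 => hec (e1 ▸ one_mem _)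
  have hcentle : ∀ X : Subgroup Γ, X ≤ G → X ≤ centralizer ({e} : Set Γ) →
      G ⊓ centralizer ({e} : Set Γ) ≤ G ⊓ centralizer (X : Set Γ) := fun X hXG hXe g hg =>
    ⟨hg.1, mem_centralizer_iff.mpr fun x hx =>
      h.ab e he he1 x (hXG hx) g hg.1 (mem_cent.mp (hXe hx)) (mem_cent.mp hg.2)⟩
  -- subgroups of the centre
  have hcentral : ∀ Z ≤ Z1, A ≤ normalizer (Z : Set Γ) → Z ≠ ⊥ →
      G ⊓ centralizer (Z : Set Γ) ≤ normalizer (B : Set Γ) := fun Z hZ hZA' hZ0 =>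
    mem_of_ge hm hl inf_le_left (h.centralizer_inv hZA')
      (hm.centralizer_solv (hZ.trans (hZB.trans hp.le)) hZA' hZ0
        (isSolvable_pGroup (hp.pgroup.to_le (hZ.trans hZB))))
      (le_inf hp.le (hBZ.trans (centralizer_le (SetLike.coe_subset_coe.mpr hZ))))
  by_cases hZe : Z1 ⊓ centralizer ({e} : Set Γ) = ⊥
  swap
  · exact (hcentle _ (inf_le_left.trans (hZB.trans hp.le)) inf_le_right).trans
      (hcentral _ inf_le_left (h.inf_cent_le_normalizer he hZA) hZe)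
  obtain ⟨X, hX⟩ : ∃ X, X = Y ⊓ centralizer ({e} : Set Γ) := ⟨_, rfl⟩
  have hXY : X ≤ Y := hX ▸ inf_le_left
  have hXe : X ≤ centralizer ({e} : Set Γ) := hX ▸ inf_le_right
  have hXA : A ≤ normalizer (X : Set Γ) := hX ▸ h.inf_cent_le_normalizer he hYA
  have hyX : y ∈ X := hX ▸ ⟨hy, mem_cent.mpr hye⟩
  have hX1 : X ≠ ⊥ := fun e0 => hy1 (mem_bot.mp (e0 ▸ hyX))
  have hXG : X ≤ G := hXY.trans (hYB.trans hp.le)
  refine (hcentle X hXG hXe).trans (le_of hm hl (hZB.trans hl.le) hZA hZne (hcentral Z1 le_rfl hZA hZne) _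
    inf_le_left (h.centralizer_inv hXA)
    (hm.centralizer_solv hXG hXA hX1 (isSolvable_pGroup (hp.pgroup.to_le (hXY.trans hYB))))
    (le_inf (hZB.trans hp.le) (le_centralizer_iff.mp ((hXY.trans hYB).trans hBZ))) ?_)
  intro r hr hrp U hUM hUA hUr hMU
  haveI := Fact.mk hr
  by_contra hUL
  have hUG : U ≤ G := hUM.trans inf_le_left
  have hUX : ∀ v ∈ X, ∀ w ∈ U, v * w = w * v := fun v hv w hw => mem_centralizer_iff.mp (hUM hw).2 v hv
  have hZM : Z1 ≤ G ⊓ centralizer (X : Set Γ) :=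
    le_inf (hZB.trans hp.le) (le_centralizer_iff.mp ((hXY.trans hYB).trans hBZ))
  have hZU : Z1 ≤ normalizer (U : Set Γ) := hZM.trans hMU
  have hdisj : Z1 ⊓ U = ⊥ := Subgroup.inf_eq_bot_of_coprime
    (IsPGroup.coprime_card_of_ne _ _ (Ne.symm hrp) _ _ (hp.pgroup.to_le hZB) hUr)
  have hUL' : ∀ u ∈ U, u ∈ normalizer (B : Set Γ) → ∀ z ∈ Z1, u * z = z * u := fun u hu huB z hz => by
    refine commutatorElement_eq_one_iff_mul_comm.mp (mem_bot.mp (hdisj.le (mem_inf.mpr ⟨?_, ?_⟩)))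
    · rw [commutatorElement_def]
      exact mul_mem ((mem_normalizer_iff.mp (hZn huB) z).mp hz) (inv_mem hz)
    · rw [show ⁅u, z⁆ = u * (z * u⁻¹ * z⁻¹) by rw [commutatorElement_def]; group]
      exact mul_mem hu ((mem_normalizer_iff.mp (hZU hz) _).mp (inv_mem hu))
  have hkill : ∀ a ∈ A, a ≠ 1 → Z1 ⊓ centralizer ({a} : Set Γ) ≠ ⊥ → ∀ f ∈ A, f ∉ zpowers a → ∀ z ∈ Z1,
      (∀ u ∈ U, u * f = f * u → z * u = u * z) → z = 1 := by
    intro a ha ha1 hZa f hf hfa z hz hzU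
    obtain ⟨Za, hZad⟩ : ∃ Za, Za = Z1 ⊓ centralizer ({a} : Set Γ) := ⟨_, rfl⟩
    rw [← hZad] at hZa
    have hZaZ : Za ≤ Z1 := hZad ▸ inf_le_left
    have hZaA : A ≤ normalizer (Za : Set Γ) := hZad ▸ h.inf_cent_le_normalizer ha hZA
    obtain ⟨N, hN⟩ : ∃ N, N = frat U := ⟨_, rfl⟩
    have hAN : A ≤ normalizer (N : Set Γ) := hN ▸ le_normalizer_frat hUA
    have hUN : U ≤ normalizer (N : Set Γ) := hN ▸ le_normalizer_frat le_normalizer
    have hZN : Z1 ≤ normalizer (N : Set Γ) := hN ▸ le_normalizer_frat hZU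
    have hZaN := hZaZ.trans hZN
    have hNG : N ≤ G := hN ▸ (frat_le U).trans hUG
    have hb := h.bar hNG hAN
    haveI hUc : IsMulCommutative (bar N U) := isMulCommutative_bar hUN fun a ha b hb =>
      hN ▸ commutator_le_frat hUr (commutator_mem_commutator ha hb)
    obtain ⟨W, hW⟩ : ∃ W, W = ⁅bar N U, bar N Za⁆ := ⟨_, rfl⟩
    have hZaU : bar N Za ≤ normalizer (bar N U : Set (Bar N)) := bar_le_normalizer (hZaZ.trans hZU)
    have hWU : W ≤ bar N U := hW ▸ Core.commutator_le_of_normalizes hZaU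
    haveI := isMulCommutative_of_le hWU hUc
    have hcop : (Nat.card (bar N Za)).Coprime (Nat.card (bar N U)) :=
      IsPGroup.coprime_card_of_ne _ _ (Ne.symm hrp) _ _ (isPGroup_bar (hp.pgroup.to_le (hZaZ.trans hZB)))
        (isPGroup_bar hUr)
    have hWA : bar N A ≤ normalizer (W : Set (Bar N)) :=
      hW ▸ le_normalizer_commutator (bar_le_normalizer hUA) (bar_le_normalizer hZaA)
    have hZaW : bar N Za ≤ normalizer (W : Set (Bar N)) := hW ▸ le_normalizer_commutator hZaU le_normalizer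
    have hWfix : ∀ w ∈ W, (∀ y ∈ bar N Za, y * w = w * y) → w = 1 := fun w hw hall =>
      mem_bot.mp ((Core.abelian_inf_eq_bot hZaU hcop).le ⟨⟨hWU hw, mem_centralizer_iff.mpr hall⟩, hW ▸ hw⟩)
    have hWne : W ≠ ⊥ := by
      intro e0
      have h1 : Za ≤ centralizer (U : Set Γ) := centralizes_of_frat (hZaZ.trans hZU)
        (IsPGroup.coprime_card_of_ne _ _ (Ne.symm hrp) _ _ (hp.pgroup.to_le (hZaZ.trans hZB)) hUr) fun x hx u hu => by
          rw [← hN, ← mkBar_comm (hZaN hx) (hUN hu)]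
          rw [hW, commutator_eq_bot_iff_le_centralizer] at e0
          exact mem_centralizer_iff.mp (e0 (mkBar_mem _ hu)) _ (mkBar_mem _ hx)
      exact hUL ((le_inf hUG (le_centralizer_iff.mp h1)).trans (hcentral Za hZaZ hZaA hZa))
    have hzW : W ≤ centralizer ({mkBar N (hZN hz)} : Set (Bar N)) := by
      refine le_of_translates hZaW (hcop.coprime_dvd_right (card_dvd_of_le hWU)) hWfix
        (hWA (mkBar_mem (hAN hf) hf)) (bar_le_normalizer hZaA (mkBar_mem (hAN hf) hf))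
        h.prime.pos (hb.exp _ (mkBar_mem (hAN hf) hf))
        (free_of hb (bar_mono (hZaZ.trans (hZB.trans hp.le))) (mkBar_mem (hAN ha) ha)
          (h.mkBar_ne_one hNG hAN ha ha1) (mkBar_mem (hAN hf) hf) (h.bar_outside hNG hAN ha hf hfa) (fun y hy => ?_))
        fun y hy w hw hwf => ?_
      · obtain ⟨y', hy', rfl⟩ := (mem_bar hZaN).mp hy
        exact mem_cent.mpr (mkBar_comm_of _ _ (mem_cent.mp (hZad.le hy').2))
      · obtain ⟨u, hu, huf, rfl⟩ := h.bar_lift hNG hUG hUN hUA hAN hf (hWU hw) hwf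
        obtain ⟨y', hy', rfl⟩ := (mem_bar hZaN).mp hy
        refine mem_cent.mpr ?_
        have c1 : Commute (mkBar N (hZN hz)) (mkBar N (hUN hu)) := mkBar_comm_of _ _ (hzU u hu huf)
        have c2 : Commute (mkBar N (hZN hz)) (mkBar N (hZaN hy')) :=
          mkBar_comm_of _ _ (hZcomm z hz y' (hZB (hZaZ hy')))
        exact ((c2.mul_right c1).mul_right c2.inv_right).eq.symm
    by_contra hz1
    obtain ⟨Z', hZ'⟩ : ∃ Z', Z' = Z1 ⊓ pre N (centralizer (W : Set (Bar N))) := ⟨_, rfl⟩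
    have hZ'Z : Z' ≤ Z1 := hZ' ▸ inf_le_left
    have hZ'A : A ≤ normalizer (Z' : Set Γ) := hZ' ▸ (le_inf hZA (pre_le_normalizer hAN
      (hWA.trans (Signalizer.normalizer_le_normalizer_centralizer_set W)))).trans inf_normalizer_le_normalizer_inf
    have hzZ' : z ∈ Z' := hZ' ▸ ⟨hz, mem_pre.mpr ⟨hZN hz, mem_centralizer_iff.mpr fun w hw =>
      mem_cent.mp (hzW hw)⟩⟩
    have hZ'0 : Z' ≠ ⊥ := fun e0 => hz1 (mem_bot.mp (e0 ▸ hzZ'))
    refine hWne ((eq_bot_iff_forall _).mpr fun w hw => hWfix w hw fun y hy => ?_)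
    obtain ⟨u, hu, rfl⟩ := (mem_bar hUN).mp (hWU hw)
    obtain ⟨y', hy', rfl⟩ := (mem_bar hZaN).mp hy
    obtain ⟨n, hn, hfix⟩ := Core.exists_centralizing_in_coset (A := Z') (N := N) (k := u) (hZ'Z.trans hZN)
      (IsPGroup.coprime_card_of_ne _ _ (Ne.symm hrp) _ _ (hp.pgroup.to_le (hZ'Z.trans hZB))
        (hN ▸ hUr.to_le (frat_le U)))
      (Or.inl (isSolvable_pGroup (hp.pgroup.to_le (hZ'Z.trans hZB)))) fun b hb' => by
        obtain ⟨hbN, hbW⟩ := mem_pre.mp (hZ'.le hb').2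
        have hcm := (mkBar_comm (hUN hu) hbN).mp (mem_centralizer_iff.mp hbW _ hw)
        have := (mem_normalizer_iff.mp (inv_mem (hUN hu)) _).mp (inv_mem hcm)
        rw [show u⁻¹ * ⁅u, b⁆⁻¹ * u⁻¹⁻¹ = u⁻¹ * (b * u * b⁻¹) by simp only [commutatorElement_def]; group] at this
        exact this
    have hun : u * n ∈ U := mul_mem hu (frat_le U (hN ▸ hn))
    have hcm := hUL' _ hun (hcentral Z' hZ'Z hZ'A hZ'0 ⟨hUG hun, hfix⟩) y' (hZaZ hy')
    have e1 : mkBar N (hUN hu) = mkBar N (hUN hun) :=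
      (mkBar_eq_iff _ _).mpr (by rw [inv_mul_cancel_left]; exact hn)
    rw [e1]
    exact (mkBar_comm_of _ _ hcm).symm
  -- the second centre part is central
  have hXB : X ≤ centralizer (B : Set Γ) := by
    rw [le_centralizer_iff]
    refine h.gen hp.le hp.inv fun f hf hf1 u hu => mem_centralizer_iff.mpr fun v hv => ?_
    have hz : ⁅v, u⁆ ∈ Z1 := (hXY hv).2 u hu.1
    refine commutatorElement_eq_one_iff_mul_comm.mp ?_
    by_cases hex : ∃ a ∈ A, a ≠ 1 ∧ Z1 ⊓ centralizer ({a} : Set Γ) ≠ ⊥ ∧ f ∉ zpowers a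
    · obtain ⟨a, ha, ha1, hZa, hfa⟩ := hex
      refine hkill a ha ha1 hZa f hf hfa _ hz fun w hw hwf => ?_
      have c1 : Commute v w := hUX v hv w hw
      have c2 : Commute u w := h.ab f hf hf1 u (hp.le hu.1) w (hUG hw) (mem_cent.mp hu.2) hwf
      rw [commutatorElement_def]
      exact (((c1.mul_left c2).mul_left c1.inv_left).mul_left c2.inv_left).eq
    push Not at hex
    have hZf : Z1 ≤ centralizer ({f} : Set Γ) := h.gen (hZB.trans hp.le) hZA fun a ha ha1 => by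
      by_cases h0 : Z1 ⊓ centralizer ({a} : Set Γ) = ⊥
      · rw [h0]; exact bot_le
      · refine fun x hx => cent_zpowers_eq.le ?_
        rw [h.zpowers_eq ha hf hf1 (hex a ha ha1 h0)]
        exact cent_zpowers_eq.ge hx.2
    have hef : e ∉ zpowers f := fun hm' => hZne (by
      rw [eq_bot_iff, ← hZe]
      refine fun x hx => ⟨hx, cent_zpowers_eq.le ?_⟩
      rw [h.zpowers_eq hf he he1 hm']
      exact cent_zpowers_eq.ge (hZf hx))
    have hconjX : ∀ w ∈ X, f * w * f⁻¹ ∈ X := fun w hw => Core.conj_mem_of_le_normalizer hXA hf hw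
    let ψ : X → X := fun w => ⟨(w : Γ)⁻¹ * (f * w * f⁻¹), mul_mem (inv_mem w.2) (hconjX w w.2)⟩
    have hinj : Function.Injective ψ := by
      intro a b hab
      have e1 : (a : Γ)⁻¹ * (f * a * f⁻¹) = (b : Γ)⁻¹ * (f * b * f⁻¹) := congrArg Subtype.val hab
      have h1 : (b : Γ) * (a : Γ)⁻¹ = f * ((b : Γ) * (a : Γ)⁻¹) * f⁻¹ := by
        calc (b : Γ) * (a : Γ)⁻¹ = b * ((a : Γ)⁻¹ * (f * a * f⁻¹)) * (f * a * f⁻¹)⁻¹ := by group
          _ = f * ((b : Γ) * (a : Γ)⁻¹) * f⁻¹ := by rw [e1]; group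
      have h2 : (b : Γ) * (a : Γ)⁻¹ * f = f * ((b : Γ) * (a : Γ)⁻¹) := by
        nth_rewrite 1 [h1]
        group
      exact Subtype.ext (mul_inv_eq_one.mp (h.fixed_two hf hf1 he hef
        (hXG (mul_mem b.2 (inv_mem a.2) : (b : Γ) * (a : Γ)⁻¹ ∈ X)) h2
        (mem_cent.mp (hXe (mul_mem b.2 (inv_mem a.2) : (b : Γ) * (a : Γ)⁻¹ ∈ X))))).symm
    obtain ⟨w, hw⟩ := Finite.surjective_of_injective hinj ⟨v, hv⟩
    rw [show v = (w : Γ)⁻¹ * (f * w * f⁻¹) from (congrArg Subtype.val hw).symm]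
    have hz0 : ⁅(w : Γ), u⁆ ∈ Z1 := (hXY w.2).2 u hu.1
    have c0 : Commute ⁅(w : Γ), u⁆ (w : Γ) := hZcomm _ hz0 _ (hYB (hXY w.2))
    have huf : f⁻¹ * u * f = u := by rw [mul_assoc, mem_cent.mp hu.2, inv_mul_cancel_left]
    calc ⁅(w : Γ)⁻¹ * (f * w * f⁻¹), u⁆
          = (w : Γ)⁻¹ * (f * ⁅(w : Γ), f⁻¹ * u * f⁆ * f⁻¹ * ⁅(w : Γ), u⁆⁻¹) * w := by
          simp only [commutatorElement_def]; group
      _ = (w : Γ)⁻¹ * (⁅(w : Γ), u⁆ * ⁅(w : Γ), u⁆⁻¹) * w := by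
          rw [huf, ← mem_cent.mp (hZf hz0), mul_inv_cancel_right]
      _ = 1 := by group
  exact hX1 (le_bot_iff.mp (le_trans (le_inf (le_inf (hXY.trans hYB) hXB) hXe) (hZ1 ▸ hZe).le))

end Loc

end CfsgLib.AbelianCent
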