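import Cfsg.Agent.Lib.AbelianCent.Local
import Cfsg.Agent.Lib.PLocal.NormalPComplementThms
import Cfsg.Agent.Lib.Transfer.PResidual
import Cfsg.Agent.Lib.Core.FPFAutomorphism
import Cfsg.Agent.Lib.SolvStruct.NilProduct

/-!
# No minimal insolvable configuration exists
-/

set_option autoImplicit false
set_option linter.all false

namespace CfsgLib.AbelianCent

open Subgroup Cfsg
open scoped commutatorElement

universe u

variable {Γ : Type u} [Group Γ] [Finite Γ] {A G : Subgroup Γ} {q : ℕ}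

theorem eq_bot_of_not_dvd {r : ℕ} [Fact r.Prime] {X : Subgroup Γ} (hX : IsPGroup r X) (h : ¬ r ∣ Nat.card X) : X = ⊥ := by
  obtain ⟨j, hj⟩ := IsPGroup.iff_card.mp hX
  refine card_eq_one.mp ?_
  rcases Nat.eq_zero_or_pos j with h0 | hpos
  · rw [hj, h0, pow_zero]
  · exact absurd (hj ▸ dvd_pow_self r hpos.ne') h

/-- A moved part whose good directions lie in a subgroup containing the operators' good part lies in it. -/
theorem Pair.le_of_good (h : Sys A G q) {p : ℕ} {B K L : Subgroup Γ} (hP : Pair A G p B K) {c : Γ} (hc : c ∈ A)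
    (hc1 : c ≠ 1) (hgood : ∀ e ∈ A, e ∉ zpowers c → G ⊓ centralizer ({e} : Set Γ) ≤ L) : B ≤ L := by
  haveI := Fact.mk hP.prime
  obtain ⟨C0, hC0⟩ : ∃ C0, C0 = B ⊓ L := ⟨_, rfl⟩
  have hC0B : C0 ≤ B := hC0 ▸ inf_le_left
  refine le_trans ?_ (hC0 ▸ inf_le_right : C0 ≤ L)
  refine eq_of_sup_frat hC0B ?_
  obtain ⟨F, hF⟩ : ∃ F, F = frat B := ⟨_, rfl⟩
  rw [← hF]
  have hBF : B ≤ normalizer (F : Set Γ) := hF ▸ le_normalizer_frat le_normalizer
  have hAF : A ≤ normalizer (F : Set Γ) := hF ▸ le_normalizer_frat hP.inv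
  have hKF : K ≤ normalizer (F : Set Γ) := hF ▸ le_normalizer_frat hP.knorm
  have hFG : F ≤ G := hF ▸ (frat_le B).trans hP.le
  refine le_sup_of_bar_le hBF (hC0B.trans hBF) ?_
  have hb' := h.bar hFG hAF
  haveI hBc : IsMulCommutative (bar F B) := isMulCommutative_bar hBF fun a ha b hbb =>
    hF ▸ commutator_le_frat hP.pgroup (commutator_mem_commutator ha hbb)
  have hcop' : (Nat.card (bar F K)).Coprime (Nat.card (bar F B)) :=
    (hP.kcop.coprime_dvd_left (card_bar_dvd hKF)).coprime_dvd_right (card_bar_dvd hBF)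
  have hfix : bar F B ⊓ centralizer (bar F K : Set (Bar F)) = ⊥ := by
    have h4 := Core.abelian_inf_eq_bot (bar_le_normalizer hP.knorm) hcop'
    rwa [bar_commutator hBF hKF, hP.eq, inf_of_le_left inf_le_left] at h4
  have hout : ∀ a, ∀ ha : a ∈ A, mkBar F (hAF ha) ∉ zpowers (mkBar F (hAF hc)) → a ∉ zpowers c := fun a ha hac hm => hac (by
    obtain ⟨i, hi⟩ := mem_zpowers_iff.mp hm
    refine mem_zpowers_iff.mpr ⟨i, ?_⟩
    rw [mkBar, mkBar, ← map_zpow]
    exact congrArg _ (Subtype.ext hi))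
  refine le_of_outside hb' (bar_mono hP.kle) (bar_le_normalizer hP.kinv) (n := 1) hBc (bar_mono hP.le)
    (bar_le_normalizer hP.inv) (bar_le_normalizer hP.knorm) hcop' ?_ hfix (mkBar_mem (hAF hc) hc)
    (h.mkBar_ne_one hFG hAF hc hc1) (fun e he hec y hy => ?_) (fun e he he1 hec y hy => ?_)
  · rw [Subgroup.lowerCentralSeries_succ, Subgroup.lowerCentralSeries_zero, bar_commutator hKF hKF]
    intro y hy
    obtain ⟨k, hk, rfl⟩ := (mem_bar ((commutator_mono hKF hKF).trans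
      (commutator_le.mpr fun a ha b hb => commutator_mem_of ha hb))).mp hy
    refine mem_centralizer_iff.mpr fun w hw => ?_
    obtain ⟨b, hbb, rfl⟩ := (mem_bar hBF).mp hw
    exact mkBar_comm_of _ _ (mem_centralizer_iff.mp (hP.kcomm hk) b hbb)
  · obtain ⟨a, ha, rfl⟩ := (mem_bar hAF).mp he
    obtain ⟨b, hbb, hba, rfl⟩ := h.bar_lift hFG hP.le hBF hP.inv hAF ha hy.1 (mem_cent.mp hy.2)
    exact mkBar_mem _ (hC0 ▸ ⟨hbb, hgood a ha (hout a ha hec) ⟨hP.le hbb, mem_cent.mpr hba⟩⟩)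
  · obtain ⟨a, ha, rfl⟩ := (mem_bar hAF).mp he
    obtain ⟨k, hk, hka, rfl⟩ := h.bar_lift hFG hP.kle hKF hP.kinv hAF ha hy.1 (mem_cent.mp hy.2)
    have hkL : k ∈ L := hgood a ha (hout a ha hec) ⟨hP.kle hk, mem_cent.mpr hka⟩
    have hkn : k ∈ normalizer (C0 : Set Γ) := hC0 ▸ inf_normalizer_le_normalizer_inf ⟨hP.knorm hk, le_normalizer hkL⟩
    exact bar_le_normalizer (X := zpowers k) (zpowers_le.mpr hkn) (mkBar_mem _ (mem_zpowers k))

theorem Main.isSolvable_of_eq_pPow (hm : Main A G q) {p : ℕ} [Fact p.Prime] : ¬ IsPGroup p G := fun hG =>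
  hm.ns (isSolvable_pGroup hG)

/-- Every odd prime divisor has a moved part. -/
theorem Main.exists_loc (hm : Main A G q) {p : ℕ} [Fact p.Prime] (hp2 : p ≠ 2) (hpd : p ∣ Nat.card G) :
    ∃ P B K, Loc A G p P B K := by
  have h := hm.sys
  have hp : p.Prime := Fact.out
  obtain ⟨P, hP⟩ := h.exists_Syl p
  have hP1 : P ≠ ⊥ := by
    rintro rfl
    refine hP.ndvd ?_
    rwa [relIndex_bot_left]
  have hPs := isSolvable_pGroup hP.pgroup
  have hMA := h.normalizer_inv hP.inv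
  have hMs := hm.normalizer_solv hP.le hP.inv hP1 hPs
  obtain ⟨K, hKM, hKA, hKp, hsup, hKc, hc | ⟨B, hBP, hpair, hBn⟩⟩ :=
    hP.exists_pair h inf_le_left hMA hMs (le_inf hP.le le_normalizer) inf_le_right
  swap
  · exact ⟨P, B, K, hP, hBP, hpair, hBn⟩
  exfalso
  obtain ⟨Z, hZ⟩ : ∃ Z, Z = centerThompsonAOf P := ⟨_, rfl⟩
  have hZP : Z ≤ P := hZ ▸ CfsgLib.PLocal.centerThompsonA_le P
  have hNN : normalizer (P : Set Γ) ≤ normalizer (Z : Set Γ) :=
    hZ ▸ CfsgLib.PLocal.normalizer_le_normalizer_centerThompsonA P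
  have hZA : A ≤ normalizer (Z : Set Γ) := hP.inv.trans hNN
  have hZ1 : Z ≠ ⊥ := hZ ▸ CfsgLib.PLocal.centerThompsonA_ne_bot hP.pgroup hP1
  obtain ⟨M0, hM0⟩ : ∃ M0, M0 = G ⊓ normalizer (Z : Set Γ) := ⟨_, rfl⟩
  have hM0G : M0 ≤ G := hM0 ▸ inf_le_left
  have hM0A : A ≤ normalizer (M0 : Set Γ) := hM0 ▸ h.normalizer_inv hZA
  have hM0s : Group.IsSolvable M0 :=
    hM0 ▸ hm.normalizer_solv (hZP.trans hP.le) hZA hZ1 (isSolvable_pGroup (hP.pgroup.to_le hZP))
  have hPM0 : P ≤ M0 := hM0 ▸ le_inf hP.le (le_normalizer.trans hNN)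
  -- the normal `p`-complement of `M0`
  obtain ⟨O, hO⟩ : ∃ O, O = (pPrimeCore p M0).map M0.subtype := ⟨_, rfl⟩
  have hOM : O ≤ M0 := hO ▸ map_subtype_le _
  have hOn : M0 ≤ normalizer (O : Set Γ) := by
    rw [hO]
    have := le_normalizer_map (H := pPrimeCore p M0) M0.subtype
    rwa [normalizer_eq_top, ← MonoidHom.range_eq_map, range_subtype] at this
  obtain ⟨Q, hQ⟩ : ∃ Q, Q = (K ⊓ M0) ⊔ O := ⟨_, rfl⟩
  have hQM : Q ≤ M0 := hQ ▸ sup_le inf_le_right hOM
  have hQc : (Nat.card Q).Coprime p := by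
    rw [hQ]
    refine Core.coprime_card_sup (inf_le_right.trans hOn)
      (((Nat.Prime.coprime_iff_not_dvd hp).mpr fun hd => hKp (hd.trans (card_dvd_of_le inf_le_left))).symm) ?_
    rw [hO, ← Nat.card_congr ((pPrimeCore p M0).equivMapOfInjective _ M0.subtype_injective).toEquiv]
    exact Core.coprime_card_pPrimeCore p M0
  have hU : ∀ r : ℕ, r.Prime → r ≠ p → ∀ U ≤ M0, A ≤ normalizer (U : Set Γ) → IsPGroup r U →
      M0 ≤ normalizer (U : Set Γ) → U ≤ Q := by
    intro r hr hrp U hU hUA hUr hUn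
    refine le_trans ?_ (hQ ▸ le_sup_right : O ≤ Q)
    haveI : (U.subgroupOf M0).Normal := normal_subgroupOf_of_le_normalizer hUn
    have h1 : U.subgroupOf M0 ≤ pPrimeCore p M0 := Core.le_pPrimeCore (by
      haveI := Fact.mk hr
      obtain ⟨j, hj⟩ := IsPGroup.iff_card.mp hUr
      rw [Nat.card_congr (subgroupOfEquivOfLe hU).toEquiv, hj]
      exact ((Nat.coprime_primes hr hp).mpr hrp).pow_left j)
    rw [hO, ← map_subgroupOf_eq_of_le hU]
    exact map_mono h1
  have hNM : M0 ⊓ normalizer (P : Set Γ) ≤ P ⊔ (K ⊓ M0) := by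
    intro x hx
    have hx' := hsup ⟨hM0G hx.1, hx.2⟩
    rw [sup_comm, Core.mem_sup_iff_mul' (hKM.trans inf_le_right)] at hx'
    obtain ⟨a, ha, b, hb, rfl⟩ := hx'
    refine mul_mem (mem_sup_left ha) (mem_sup_right ⟨hb, ?_⟩)
    simpa using mul_mem (inv_mem (hPM0 ha)) hx.1
  have hPc : P ≤ normalizer ((K ⊓ M0 : Subgroup Γ) : Set Γ) :=
    (le_centralizer_iff.mp (inf_le_left.trans hc)).trans (centralizer_le_normalizer _)
  have hKK : K ⊓ M0 ≤ normalizer ((K ⊓ M0 : Subgroup Γ) : Set Γ) := le_normalizer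
  have hQn : M0 ≤ normalizer (Q : Set Γ) := by
    refine hP.le_of_frattini h hM0G hM0A hM0s ?_ fun r hr hrp U hU' hUA hUr hUn => (hU r hr hrp U hU' hUA hUr hUn).trans le_normalizer
    rw [inf_eq_left.mpr hPM0]
    refine le_trans ?_ (hQ ▸ inf_normalizer_le_normalizer_sup')
    exact le_inf (hNM.trans (sup_le hPc hKK)) (inf_le_left.trans hOn)
  have hM0sup : M0 ≤ P ⊔ Q := by
    refine hP.le_of_frattini h hM0G hM0A hM0s ?_ fun r hr hrp U hU' hUA hUr hUn => (hU r hr hrp U hU' hUA hUr hUn).trans le_sup_right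
    rw [inf_eq_left.mpr hPM0]
    exact hNM.trans (sup_le le_sup_left ((hQ ▸ le_sup_left : K ⊓ M0 ≤ Q).trans le_sup_right))
  haveI : (Q.subgroupOf M0).Normal := normal_subgroupOf_of_le_normalizer hQn
  have hnpc : HasNormalPComplement p M0 := by
    refine CfsgLib.Transfer.hasNormalPComplement_iff_exists.mpr ⟨Q.subgroupOf M0, inferInstance, ?_, ?_⟩
    · rwa [Nat.card_congr (subgroupOfEquivOfLe hQM).toEquiv]
    · refine hP.pgroup.of_surjective ((QuotientGroup.mk' _).comp (Subgroup.inclusion hPM0)) fun z => ?_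
      obtain ⟨⟨x, hx⟩, rfl⟩ := QuotientGroup.mk'_surjective _ z
      have hx' := hM0sup hx
      rw [Core.mem_sup_iff_mul (hPM0.trans hQn)] at hx'
      obtain ⟨a, ha, b, hb, e⟩ := hx'
      refine ⟨⟨a, ha⟩, ?_⟩
      show QuotientGroup.mk' (Q.subgroupOf M0) ⟨a, hPM0 ha⟩ = _
      rw [QuotientGroup.mk'_apply, QuotientGroup.mk'_apply, QuotientGroup.eq, mem_subgroupOf]
      show a⁻¹ * x ∈ Q
      rw [show x = a * b from by first | exact e | exact e.symm, inv_mul_cancel_left]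
      exact hb
  -- Glauberman–Thompson
  obtain ⟨S, hS⟩ := exists_sylow_eq hP.le hP.pgroup hP.ndvd
  have hnpcN : HasNormalPComplement p (normalizer (centerThompsonAOf (S : Subgroup G) : Set G)) := by
    have hmap : (centerThompsonAOf (S : Subgroup G)).map G.subtype = Z := by
      rw [CfsgLib.PLocal.centerThompsonA_map G.subtype _ (by rw [ker_subtype]; exact disjoint_bot_right), hS,
        map_subgroupOf_eq_of_le hP.le, hZ]
    have hle : (normalizer (centerThompsonAOf (S : Subgroup G) : Set G)).map G.subtype ≤ M0 := by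
      rw [hM0]
      refine le_inf (map_subtype_le _) ((le_normalizer_map G.subtype).trans_eq ?_)
      rw [hmap]
    refine CfsgLib.Transfer.hasNormalPComplement_of_injective
      ((Subgroup.inclusion hle).comp (equivMapOfInjective _ G.subtype G.subtype_injective).toMonoidHom) ?_ hnpc
    exact (Subgroup.inclusion_injective hle).comp (MulEquiv.injective _)
  have hG := CfsgLib.PLocal.hasNormalPComplement_glauberman hp2 S hnpcN
  obtain ⟨N, hN⟩ : ∃ N, N = (pResidual p G).map G.subtype := ⟨_, rfl⟩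
  have hNG : N ≤ G := hN ▸ map_subtype_le _
  have hchar : ∀ X : Subgroup Γ, X ≤ normalizer (G : Set Γ) → X ≤ normalizer (N : Set Γ) := by
    intro X hX
    rw [le_normalizer_iff, hN]
    rintro g hg _ ⟨x, hx, rfl⟩
    let φ : MulAut G := G.normalizerMonoidHom ⟨g, hX hg⟩
    have h1 : φ x ∈ (pResidual p G).map φ.toMonoidHom := mem_map_of_mem _ hx
    rw [CfsgLib.Transfer.map_pResidual_of_surjective φ.toMonoidHom φ.surjective] at h1
    exact ⟨φ x, h1, rfl⟩
  have hNbot := hm.simple N hNG (hchar A h.norm) (hchar G le_normalizer) fun e => by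
    have h1 := CfsgLib.Transfer.hasNormalPComplement_iff_coprime.mp hG
    rw [Nat.card_congr ((pResidual p G).equivMapOfInjective _ G.subtype_injective).toEquiv, ← hN, e] at h1
    exact (Nat.Prime.coprime_iff_not_dvd hp).mp h1.symm hpd
  have hq : IsPGroup p (G ⧸ pResidual p G) := CfsgLib.Transfer.isPGroup_quotient_pResidual
  refine hm.isSolvable_of_eq_pPow (p := p) (hq.of_injective (QuotientGroup.mk' _) ?_)
  rw [← MonoidHom.ker_eq_bot_iff, QuotientGroup.ker_mk']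
  exact (Subgroup.map_eq_bot_iff_of_injective _ G.subtype_injective).mp (hN.symm.trans hNbot)

/-- **The contradiction.** -/
theorem Main.false (hm : Main A G q) : False := by
  have h := hm.sys
  haveI : Fact (Nat.Prime 2) := ⟨Nat.prime_two⟩
  obtain ⟨p, hp, hp2, hpd⟩ : ∃ p, p.Prime ∧ p ≠ 2 ∧ p ∣ Nat.card G := by
    by_contra hno
    push Not at hno
    refine hm.isSolvable_of_eq_pPow (p := 2) (IsPGroup.of_card (n := (Nat.card G).primeFactorsList.length) ?_)
    exact Nat.eq_prime_pow_of_unique_prime_dvd Nat.card_pos.ne' fun {d} hd hdd => by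
      by_contra hd2
      exact hno d hd hd2 hdd
  haveI := Fact.mk hp
  obtain ⟨P, B, K, hl⟩ := hm.exists_loc hp2 hpd
  obtain ⟨c, hc, hc1, hgood⟩ := Loc.exists_good hm hl
  obtain ⟨L, hL⟩ : ∃ L, L = G ⊓ normalizer (B : Set Γ) := ⟨_, rfl⟩
  have hLG : L ≤ G := hL ▸ inf_le_left
  have hLB : L ≤ normalizer (B : Set Γ) := hL ▸ inf_le_right
  have hLs : Group.IsSolvable L := hL ▸ Loc.solv hm hl
  have hLA : A ≤ normalizer (L : Set Γ) := hL ▸ Loc.inv hm hl
  have hgood' : ∀ e ∈ A, e ∉ zpowers c → G ⊓ centralizer ({e} : Set Γ) ≤ L := fun e he hec =>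
    hL ▸ le_inf inf_le_left (hgood e he hec).1
  have hBL : B ≤ L := hL ▸ le_inf hl.pair.le le_normalizer
  have hodd : ∀ r : ℕ, r.Prime → r ≠ 2 → ∀ R, Syl A G r R → R ≤ L := by
    intro r hr hr2 R hR
    haveI := Fact.mk hr
    by_cases hrd : r ∣ Nat.card G
    swap
    · rw [eq_bot_of_not_dvd hR.pgroup fun hd => hrd (hd.trans (card_dvd_of_le hR.le))]
      exact bot_le
    obtain ⟨R', Br, Kr, hlr⟩ := hm.exists_loc hr2 hrd
    have e : R = R' := le_antisymm (hlr.syl.max R hR.le hR.pgroup hR.inv) (hR.max R' hlr.syl.le hlr.syl.pgroup hlr.syl.inv)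
    have hBr : Br ≤ L := hlr.pair.le_of_good h hc hc1 hgood'
    have h1 : L ≤ normalizer (Br : Set Γ) := Loc.mem_of_ge hm hlr hLG hLA hLs hBr
    have h2 : G ⊓ normalizer (Br : Set Γ) ≤ normalizer (B : Set Γ) :=
      Loc.mem_of_ge hm hl inf_le_left (Loc.inv hm hlr) (Loc.solv hm hlr) (le_inf hl.pair.le (hBL.trans h1))
    exact e ▸ hL ▸ le_inf hlr.syl.le ((Loc.sylow_le hm hlr).trans h2)
  obtain ⟨S, hS⟩ := h.exists_Syl 2
  have hLne : L ≠ G := fun e => hm.ns (e ▸ hLs)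
  have hSL : ¬ S ≤ L := fun hSL => hLne (le_antisymm hLG (le_of_sylows fun r hr => by
    haveI := Fact.mk hr
    obtain ⟨R, hR⟩ := h.exists_Syl r
    refine ⟨R, hR.le, hR.ndvd, ?_⟩
    by_cases hr2 : r = 2
    · subst hr2
      exact (hS.max R hR.le hR.pgroup hR.inv).trans hSL
    · exact hodd r hr hr2 R hR))
  have hS1 : S ≠ ⊥ := fun e => hSL (e ▸ bot_le)
  have hSs := isSolvable_pGroup hS.pgroup
  -- `G = L S`
  have hidx : ∀ X : Subgroup Γ, X ≤ G → (∀ r : ℕ, r.Prime → r ≠ 2 → ¬ r ∣ X.relIndex G) →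
      ∀ g ∈ G, ∃ a ∈ X, ∃ b ∈ S, g = a * b := by
    intro X hX hXr g hg
    have hcop : (X.subgroupOf G).index.Coprime (S.subgroupOf G).index := Nat.coprime_of_dvd fun r hr h1 h2 => by
      by_cases hr2 : r = 2
      · subst hr2; exact hS.ndvd h2
      · exact hXr r hr hr2 h1
    obtain ⟨a, ha, b, hb, e⟩ := Core.exists_mul_of_coprime_index hcop ⟨g, hg⟩
    exact ⟨a, mem_subgroupOf.mp ha, b, mem_subgroupOf.mp hb, congrArg Subtype.val e⟩
  have hmul := hidx L hLG fun r hr hr2 hd => by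
    haveI := Fact.mk hr
    obtain ⟨R, hR⟩ := h.exists_Syl r
    exact hR.ndvd (hd.trans (Dvd.intro_left _ (relIndex_mul_relIndex R L G (hodd r hr hr2 R hR) hLG)))
  have hker : ∀ X : Subgroup Γ, X ≤ L → S ≤ normalizer (X : Set Γ) → X = ⊥ := by
    intro X hXL hXS
    let X0 : Subgroup Γ :=
      { carrier := {x | ∀ g ∈ G, g * x * g⁻¹ ∈ L}
        one_mem' := fun g _ => by rw [mul_one, mul_inv_cancel]; exact one_mem _
        mul_mem' := fun {a b} ha hb g hg => by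
          rw [show g * (a * b) * g⁻¹ = g * a * g⁻¹ * (g * b * g⁻¹) by group]
          exact mul_mem (ha g hg) (hb g hg)
        inv_mem' := fun {a} ha g hg => by
          rw [show g * a⁻¹ * g⁻¹ = (g * a * g⁻¹)⁻¹ by group]
          exact inv_mem (ha g hg) }
    have hX0L : X0 ≤ L := fun x hx => by simpa using hx 1 (one_mem G)
    have hX0 : X0 = ⊥ := hm.simple X0 (hX0L.trans hLG) (by
        rw [le_normalizer_iff]
        intro a ha x hx g hg
        have hg' : a⁻¹ * g * a ∈ G := by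
          have := (mem_normalizer_iff.mp (h.norm (inv_mem ha)) g).mp hg
          rwa [inv_inv] at this
        rw [show g * (a * x * a⁻¹) * g⁻¹ = a * ((a⁻¹ * g * a) * x * (a⁻¹ * g * a)⁻¹) * a⁻¹ by group]
        exact (mem_normalizer_iff.mp (hLA ha) _).mp (hx _ hg'))
      (by
        rw [le_normalizer_iff]
        intro a ha x hx g hg
        rw [show g * (a * x * a⁻¹) * g⁻¹ = (g * a) * x * (g * a)⁻¹ by group]
        exact hx _ (mul_mem hg ha))
      fun e => hLne (le_antisymm hLG (e ▸ hX0L))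
    rw [eq_bot_iff, ← hX0]
    intro x hx g hg
    obtain ⟨l, hl', s, hs, rfl⟩ := hmul g hg
    rw [show l * s * x * (l * s)⁻¹ = l * (s * x * s⁻¹) * l⁻¹ by group]
    exact mul_mem (mul_mem hl' (hXL ((mem_normalizer_iff.mp (hXS hs) x).mp hx))) (inv_mem hl')
  -- every invariant solvable subgroup containing `S` normalises it
  have hnormS : ∀ M ≤ G, A ≤ normalizer (M : Set Γ) → Group.IsSolvable M → S ≤ M → M ≤ normalizer (S : Set Γ) := by
    intro M hMG hMA hMs hSM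
    refine hS.le_of_frattini h hMG hMA hMs ?_ fun r hr hr2 U hU hUA hUr hUn => ?_
    · rw [inf_eq_left.mpr hSM]
      exact inf_le_right
    · haveI := Fact.mk hr
      obtain ⟨R, hR⟩ := h.exists_Syl r
      rw [hker U ((hR.max U (hU.trans hMG) hUr hUA).trans (hodd r hr hr2 R hR)) (hSM.trans hUn)]
      exact bot_le
  obtain ⟨M0, hM0⟩ : ∃ M0, M0 = G ⊓ normalizer (S : Set Γ) := ⟨_, rfl⟩
  have hM0G : M0 ≤ G := hM0 ▸ inf_le_left
  have hM0A : A ≤ normalizer (M0 : Set Γ) := hM0 ▸ h.normalizer_inv hS.inv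
  have hM0s : Group.IsSolvable M0 := hM0 ▸ hm.normalizer_solv hS.le hS.inv hS1 hSs
  have hSM0 : S ≤ M0 := hM0 ▸ le_inf hS.le le_normalizer
  have hM0n : M0 ≤ normalizer (S : Set Γ) := hM0 ▸ inf_le_right
  obtain ⟨K2, hKM, hKA, hK2, hsup, hKc, hcase⟩ := hS.exists_pair h hM0G hM0A hM0s hSM0 hM0n
  have hKL : K2 ≤ L := by
    refine le_of_sylows fun r hr => ?_
    haveI := Fact.mk hr
    obtain ⟨R, hR⟩ := h.exists_Syl r
    have hRK := hR.inf h (hKM.trans hM0G) hKA
    refine ⟨_, hRK.le, hRK.ndvd, ?_⟩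
    by_cases hr2 : r = 2
    · subst hr2
      rw [eq_bot_of_not_dvd hRK.pgroup fun hd => hK2 (hd.trans (card_dvd_of_le inf_le_right))]
      exact bot_le
    · exact inf_le_left.trans (hodd r hr hr2 R hR)
  rcases hcase with hcen | ⟨B2, hB2S, hpair2, hB2n⟩
  swap
  · have hl2 : Loc A G 2 S B2 K2 := ⟨hS, hB2S, hpair2, hM0 ▸ hB2n⟩
    have hB2L : B2 ≤ L := hpair2.le_of_good h hc hc1 hgood'
    have h1 : L ≤ normalizer (B2 : Set Γ) := Loc.mem_of_ge hm hl2 hLG hLA hLs hB2L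
    have h2 : G ⊓ normalizer (B2 : Set Γ) ≤ normalizer (B : Set Γ) :=
      Loc.mem_of_ge hm hl inf_le_left (Loc.inv hm hl2) (Loc.solv hm hl2) (le_inf hl.pair.le (hBL.trans h1))
    exact hSL (hL ▸ le_inf hS.le ((Loc.sylow_le hm hl2).trans h2))
  have hK1 : K2 = ⊥ := hker K2 hKL ((le_centralizer_iff.mp hcen).trans (centralizer_le_normalizer _))
  have hmax : ∀ M ≤ G, A ≤ normalizer (M : Set Γ) → Group.IsSolvable M → S ≤ M → M ≤ S := by
    intro M hMG hMA hMs hSM
    have h1 : M ≤ M0 := hM0 ▸ le_inf hMG (hnormS M hMG hMA hMs hSM)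
    exact h1.trans (hsup.trans (by rw [hK1, sup_bot_eq]))
  -- one direction has a `2`-group as centraliser
  obtain ⟨Z, hZ⟩ : ∃ Z, Z = S ⊓ centralizer (S : Set Γ) := ⟨_, rfl⟩
  have hZA : A ≤ normalizer (Z : Set Γ) := hZ ▸ (le_inf hS.inv
    (hS.inv.trans (Signalizer.normalizer_le_normalizer_centralizer_set S))).trans inf_normalizer_le_normalizer_inf
  have hZS : Z ≤ S := hZ ▸ inf_le_left
  have hZne : Z ≠ ⊥ := by
    haveI := hS.pgroup.isNilpotent
    have hB1 : (⊤ : Subgroup S) ≠ ⊥ := fun e => hS1 (by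
      rw [eq_bot_iff]
      intro b hb
      have := e.le (mem_top (⟨b, hb⟩ : S))
      exact mem_bot.mpr (congrArg Subtype.val (mem_bot.mp this)))
    obtain ⟨⟨z, hz⟩, hz1⟩ := Subgroup.ne_bot_iff_exists_ne_one.mp (Core.inf_center_ne_bot_of_isNilpotent ⊤ hB1)
    intro e
    refine hz1 (Subtype.ext (Subtype.ext (mem_bot.mp (e.le ?_))))
    rw [hZ]
    exact ⟨z.2, mem_centralizer_iff.mpr fun b hb => congrArg Subtype.val (mem_center_iff.mp hz.2 ⟨b, hb⟩)⟩
  have hsmall : ∀ e ∈ A, e ≠ 1 → Z ⊓ centralizer ({e} : Set Γ) ≠ ⊥ → G ⊓ centralizer ({e} : Set Γ) ≤ S := by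
    intro e he he1 hne
    obtain ⟨X, hX⟩ : ∃ X, X = Z ⊓ centralizer ({e} : Set Γ) := ⟨_, rfl⟩
    have hXS : X ≤ S := hX ▸ inf_le_left.trans hZS
    have hXA : A ≤ normalizer (X : Set Γ) := hX ▸ h.inf_cent_le_normalizer he hZA
    have hSX : S ≤ centralizer (X : Set Γ) := le_centralizer_iff.mp (hX ▸ inf_le_left.trans (hZ ▸ inf_le_right))
    refine le_trans ?_ (hmax _ inf_le_left (h.centralizer_inv hXA)
      (hm.centralizer_solv (hXS.trans hS.le) hXA (hX ▸ hne) (isSolvable_pGroup (hS.pgroup.to_le hXS)))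
      (le_inf hS.le hSX))
    exact fun g hg => ⟨hg.1, mem_centralizer_iff.mpr fun x hx =>
      h.ab e he he1 x (hS.le (hXS hx)) g hg.1 (mem_cent.mp (hX.le hx).2) (mem_cent.mp hg.2)⟩
  have hSc : G ⊓ centralizer ({c} : Set Γ) ≤ S := by
    by_contra hcS
    refine hZne (le_bot_iff.mp (h.gen (hZS.trans hS.le) hZA fun e he he1 => ?_))
    by_contra hne
    have hne' : Z ⊓ centralizer ({e} : Set Γ) ≠ ⊥ := fun e0 => hne e0.le
    by_cases hec : e ∈ zpowers c
    · refine hcS (le_trans ?_ (hsmall e he he1 hne'))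
      refine inf_le_inf_left _ fun x hx => cent_zpowers_eq.le ?_
      rw [h.zpowers_eq hc he he1 hec]
      exact cent_zpowers_eq.ge hx
    · obtain ⟨x, hx, hx1, hxe⟩ := (hgood e he hec).2
      have hxS := hsmall e he he1 hne' ⟨hl.syl.le hx, mem_cent.mpr hxe⟩
      exact hx1 (mem_bot.mp ((Subgroup.inf_eq_bot_of_coprime
        (IsPGroup.coprime_card_of_ne _ _ hp2 _ _ hl.syl.pgroup hS.pgroup)).le ⟨hx, hxS⟩))
  -- the odd part of `L`
  haveI := hLs
  obtain ⟨H, hHL, hHA, hH1, hH2⟩ :=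
    CfsgLib.Signalizer.Solv.exists_invariant_hall hLA (h.coprime hLG) {s : ℕ | s ≠ 2}
  have hHodd : ¬ 2 ∣ Nat.card H := fun hd => hH1 2 Nat.prime_two hd rfl
  have hHnil : Group.IsNilpotent H := by
    let φ : MulAut H := H.normalizerMonoidHom ⟨c, hHA hc⟩
    refine Core.FPFAut.isNilpotent_of_fpf
      (fun K _ _ r _ hr P hP => CfsgLib.PLocal.hasNormalPComplement_glauberman hr P hP) φ (fun y hy => ?_) h.prime ?_
    · have h1 : c * (y : Γ) * c⁻¹ = (y : Γ) := congrArg Subtype.val hy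
      have hyS : (y : Γ) ∈ S := hSc ⟨hLG (hHL y.2), mem_cent.mpr (mul_inv_eq_iff_eq_mul.mp h1).symm⟩
      obtain ⟨j, hj⟩ := IsPGroup.iff_card.mp hS.pgroup
      have hcop : (Nat.card H).Coprime (Nat.card S) :=
        hj ▸ (((Nat.Prime.coprime_iff_not_dvd Nat.prime_two).mpr hHodd).symm.pow_right j)
      exact Subtype.ext (mem_bot.mp ((Subgroup.inf_eq_bot_of_coprime hcop).le ⟨y.2, hyS⟩))
    · show (H.normalizerMonoidHom ⟨c, hHA hc⟩) ^ q = 1
      rw [← map_pow, show (⟨c, hHA hc⟩ : normalizer (H : Set Γ)) ^ q = 1 from Subtype.ext (h.exp c hc), map_one]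
  have hHS := hidx H (hHL.trans hLG) fun r hr hr2 hd => by
    haveI := Fact.mk hr
    obtain ⟨R, hR⟩ := h.exists_Syl r
    rw [← relIndex_mul_relIndex H L G hHL hLG] at hd
    rcases hr.dvd_mul.mp hd with h1 | h1
    · exact hH2 r hr hr2 h1
    · exact hR.ndvd (h1.trans (Dvd.intro_left _ (relIndex_mul_relIndex R L G (hodd r hr hr2 R hR) hLG)))
  refine hm.ns (CfsgLib.SolvStruct.isSolvable_of_nilpotent_factor (H.subgroupOf G) (S.subgroupOf G) ?_ ?_ fun g => ?_)
  · haveI := hHnil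
    exact Group.nilpotent_of_mulEquiv (subgroupOfEquivOfLe (hHL.trans hLG)).symm
  · haveI := hS.pgroup.isNilpotent
    exact Group.nilpotent_of_mulEquiv (subgroupOfEquivOfLe hS.le).symm
  · obtain ⟨a, ha, b, hb, e⟩ := hHS g g.2
    exact ⟨⟨a, hLG (hHL ha)⟩, mem_subgroupOf.mpr ha, ⟨b, hS.le hb⟩, mem_subgroupOf.mpr hb, Subtype.ext e⟩

end CfsgLib.AbelianCent
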