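import Cfsg.Agent.Lib.AbelianCent.Section
import Cfsg.Agent.Lib.Core.Cores
import Cfsg.Agent.Lib.Core.Nilpotent

/-!
# The derived subgroup of an invariant solvable subgroup is nilpotent
-/

set_option autoImplicit false
set_option linter.all false

namespace CfsgLib.AbelianCent

open Subgroup
open scoped commutatorElement

variable {Γ : Type*} [Group Γ] [Finite Γ] {A G : Subgroup Γ} {q : ℕ}

theorem pGroup_lc {Y : Subgroup Γ} {r : ℕ} [Fact r.Prime] (hY : IsPGroup r Y) :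
    ∃ n, Y.lowerCentralSeries n = ⊥ :=
  (isNilpotent_iff_lowerCentralSeries (S := Y)).mp hY.isNilpotent

/-- An element commuting with an operator cannot act on a coprime operator group of the module. -/
theorem twist_commutes (h : Sys A G q) {V R : Subgroup Γ} {p r s : ℕ} [Fact p.Prime] [Fact r.Prime] [Fact s.Prime]
    (hVc : IsMulCommutative V) (hVp : IsPGroup p V) (hVG : V ≤ G) (hVA : A ≤ normalizer (V : Set Γ))
    (hRG : R ≤ G) (hRr : IsPGroup r R) (hRA : A ≤ normalizer (R : Set Γ)) (hRV : R ≤ normalizer (V : Set Γ))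
    (hrp : r ≠ p) (hsr : s ≠ r) {a k : Γ} (ha : a ∈ A) (ha1 : a ≠ 1) (hkG : k ∈ G) (hka : k * a = a * k)
    (hkV : k ∈ normalizer (V : Set Γ)) (hkR : k ∈ normalizer (R : Set Γ)) (hks : IsPGroup s (zpowers k)) :
    ∀ x ∈ R, ⁅x, k⁆ ∈ centralizer (V : Set Γ) := by
  obtain ⟨n, hn⟩ := pGroup_lc hRr
  have hT := commutator_centralizes h hRG hRA hVc hVG hVA hRV (IsPGroup.coprime_card_of_ne _ _ hrp _ _ hRr hVp)
    (hn.trans_le bot_le)
  obtain ⟨N, hN⟩ : ∃ N, N = R ⊓ centralizer (V : Set Γ) := ⟨_, rfl⟩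
  have hnorm : ∀ {X : Subgroup Γ}, X ≤ normalizer (R : Set Γ) → X ≤ normalizer (V : Set Γ) →
      X ≤ normalizer (N : Set Γ) := fun hXR hXV => hN ▸
    (le_inf hXR (hXV.trans (Signalizer.normalizer_le_normalizer_centralizer_set V))).trans
      inf_normalizer_le_normalizer_inf
  have hAN : A ≤ normalizer (N : Set Γ) := hnorm hRA hVA
  have hRN : R ≤ normalizer (N : Set Γ) := hnorm le_normalizer hRV
  have hVN : V ≤ normalizer (N : Set Γ) := by
    refine le_trans ?_ (centralizer_le_normalizer _)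
    rw [le_centralizer_iff, hN]
    exact inf_le_right
  have hkN : zpowers k ≤ normalizer (N : Set Γ) := hnorm (zpowers_le.mpr hkR) (zpowers_le.mpr hkV)
  have hNG : N ≤ G := hN ▸ inf_le_left.trans hRG
  obtain hb := h.bar hNG hAN
  haveI hbV : IsMulCommutative (bar N V) := isMulCommutative_bar hVN fun u hu v hv => by
    rw [commutatorElement_eq_one_iff_mul_comm.mpr (congrArg Subtype.val (hVc.is_comm.comm ⟨u, hu⟩ ⟨v, hv⟩))]
    exact one_mem _
  haveI hbR : IsMulCommutative (bar N R) := isMulCommutative_bar hRN fun u hu v hv => by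
    rw [hN]
    refine ⟨?_, hT (commutator_mem_commutator hu hv)⟩
    show u * v * u⁻¹ * v⁻¹ ∈ R
    exact mul_mem (mul_mem (mul_mem hu hv) (inv_mem hu)) (inv_mem hv)
  have hkk : k ∈ normalizer (N : Set Γ) := hkN (mem_zpowers k)
  obtain ⟨K, hK⟩ : ∃ K, K = bar N (zpowers k) := ⟨_, rfl⟩
  have hKR : K ≤ normalizer (bar N R : Set (Bar N)) := hK ▸ bar_le_normalizer (zpowers_le.mpr hkR)
  have hcopRK : (Nat.card K).Coprime (Nat.card (bar N R)) :=
    hK ▸ IsPGroup.coprime_card_of_ne _ _ hsr _ _ (isPGroup_bar hks) (isPGroup_bar hRr)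
  obtain ⟨Z, hZ⟩ : ∃ Z, Z = ⁅bar N R, K⁆ := ⟨_, rfl⟩
  have hZR : Z ≤ bar N R := hZ ▸ Core.commutator_le_of_normalizes hKR
  have hkK : mkBar N hkk ∈ K := hK ▸ mkBar_mem _ (mem_zpowers k)
  have hkfree : ∀ z ∈ Z, z * mkBar N hkk = mkBar N hkk * z → z = 1 := by
    intro z hz hzk
    refine mem_bot.mp ((Core.abelian_inf_eq_bot hKR hcopRK).le ⟨⟨hZR hz, mem_centralizer_iff.mpr fun y hy => ?_⟩, hZ ▸ hz⟩)
    rw [hK] at hy
    obtain ⟨y', hy', rfl⟩ := (mem_bar hkN).mp hy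
    obtain ⟨i, rfl⟩ := mem_zpowers_iff.mp hy'
    have : mkBar N (hkN hy') = mkBar N hkk ^ i := by
      rw [mkBar, mkBar, ← map_zpow]; rfl
    rw [this]
    exact ((show Commute z (mkBar N hkk) from hzk).zpow_right i).eq.symm
  have haa : a ∈ normalizer (N : Set Γ) := hAN ha
  have haK : mkBar N haa ∈ normalizer (K : Set (Bar N)) := by
    rw [hK]
    refine bar_le_normalizer (X := zpowers a) (Y := zpowers k) ?_ (mkBar_mem _ (mem_zpowers a))
    refine (zpowers_le.mpr ?_).trans (centralizer_le_normalizer _)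
    rw [cent_zpowers_eq]
    exact mem_cent.mpr hka.symm
  have haR : mkBar N haa ∈ normalizer (bar N R : Set (Bar N)) := bar_le_normalizer hRA (mkBar_mem _ ha)
  have haZ : mkBar N haa ∈ normalizer (Z : Set (Bar N)) := by
    rw [hZ]
    exact le_normalizer_commutator (A := zpowers (mkBar N haa)) (zpowers_le.mpr haR) (zpowers_le.mpr haK)
      (mem_zpowers _)
  have hkZ : K ≤ normalizer (Z : Set (Bar N)) := hZ ▸ le_normalizer_commutator hKR le_normalizer
  have hafix : ∀ i < q, i ≠ 0 → ∀ z ∈ Z, z * mkBar N haa ^ i = mkBar N haa ^ i * z → z = 1 := by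
    intro i hi hi0 z hz hzi
    refine hkfree z hz ?_
    have hai : a ^ i ∈ A := pow_mem ha i
    obtain ⟨x, hx, hxa, rfl⟩ := h.bar_lift hNG hRG hRN hRA hAN hai (hZR hz) (by
      rw [show mkBar N (hAN hai) = mkBar N haa ^ i by rw [mkBar, mkBar, ← map_pow]; rfl]
      exact hzi)
    have hne : a ^ i ≠ 1 := fun e => by
      have h2 := orderOf_dvd_of_pow_eq_one e
      rw [h.orderOf_eq ha ha1] at h2
      exact absurd (Nat.le_of_dvd (Nat.pos_of_ne_zero hi0) h2) (not_le.mpr hi)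
    exact mkBar_comm_of _ _ (h.ab _ hai hne x (hRG hx) k hkG hxa
      ((show Commute k a from hka).pow_right i).eq)
  -- the piece moved by `Z`
  obtain ⟨V', hV'⟩ : ∃ V', V' = ⁅bar N V, Z⁆ := ⟨_, rfl⟩
  have hZV : Z ≤ normalizer (bar N V : Set (Bar N)) := hZR.trans (bar_le_normalizer hRV)
  have hV'le : V' ≤ bar N V := hV' ▸ Core.commutator_le_of_normalizes hZV
  have hcopZV : (Nat.card Z).Coprime (Nat.card (bar N V)) :=
    (IsPGroup.coprime_card_of_ne _ _ hrp _ _ (isPGroup_bar hRr) (isPGroup_bar hVp)).coprime_dvd_left (card_dvd_of_le hZR)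
  haveI := isMulCommutative_of_le hV'le hbV
  have hN' : ∀ g, g ∈ normalizer (bar N V : Set (Bar N)) → g ∈ normalizer (Z : Set (Bar N)) →
      g ∈ normalizer (V' : Set (Bar N)) := fun g h1 h2 => hV' ▸
    le_normalizer_commutator (A := zpowers g) (zpowers_le.mpr h1) (zpowers_le.mpr h2) (mem_zpowers g)
  have hZV' : Z ≤ normalizer (V' : Set (Bar N)) := fun z hz => hN' z (hZV hz) (le_normalizer hz)
  have hVbot : V' = ⊥ := by
    refine eq_bot_of_twist hZV' (hcopZV.coprime_dvd_right (card_dvd_of_le hV'le)) (fun v hv hall => ?_)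
      (hN' _ (bar_le_normalizer hVA (mkBar_mem haa ha)) haZ) haZ
      (hN' _ (bar_le_normalizer (zpowers_le.mpr hkV) (mkBar_mem hkk (mem_zpowers k))) (hkZ hkK)) (hkZ hkK)
      h.prime.pos (show mkBar N haa ^ q = 1 by
        rw [mkBar, ← map_pow]
        exact (congrArg _ (Subtype.ext (h.exp a ha) : (⟨a, haa⟩ : normalizer (N : Set Γ)) ^ q = 1)).trans (map_one _))
      hafix (fun i hi z hz hzi => ?_) (fun w hw hwa => ?_)
    · exact mem_bot.mp ((Core.abelian_inf_eq_bot hZV hcopZV).le ⟨⟨hV'le hv, mem_centralizer_iff.mpr hall⟩, hV' ▸ hv⟩)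
    · -- a fixed point of the twisted operator is fixed by `k`
      refine hkfree z hz ?_
      have hc : Commute (mkBar N hkk) (mkBar N haa) := mkBar_comm_of hkk haa hka
      have h1 : Commute z (mkBar N hkk ^ q) := by
        have := (show Commute z (mkBar N hkk * mkBar N haa ^ i) from hzi).pow_right q
        rwa [(hc.pow_right i).mul_pow, ← pow_mul, mul_comm i q, pow_mul,
          show mkBar N haa ^ q = 1 by
            rw [mkBar, ← map_pow]
            exact (congrArg _ (Subtype.ext (h.exp a ha) : (⟨a, haa⟩ : normalizer (N : Set Γ)) ^ q = 1)).trans (map_one _),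
          one_pow, mul_one] at this
      have hcop : (orderOf (mkBar N hkk)).Coprime q := by
        have h2 : orderOf (mkBar N hkk) ∣ orderOf k := by
          refine (orderOf_map_dvd _ _).trans (dvd_of_eq ?_)
          exact (Subgroup.orderOf_mk k hkk)
        refine Nat.Coprime.coprime_dvd_left h2 ((Nat.Prime.coprime_iff_not_dvd h.prime).mpr fun hd => h.ndvd ?_).symm
        refine hd.trans ?_
        rw [← Subgroup.orderOf_mk k hkG]
        exact orderOf_dvd_natCard _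
      obtain ⟨m, hm⟩ := exists_pow_eq_self_of_coprime hcop.symm
      have := h1.pow_right m
      rwa [hm] at this
    · obtain ⟨v, hv, hva, rfl⟩ := h.bar_lift hNG hVG hVN hVA hAN ha (hV'le hw) hwa
      exact (mkBar_comm_of _ _ (h.ab a ha ha1 v (hVG hv) k hkG hva hka)).symm
  -- `Z` is trivial
  intro x hx
  have hxk : mkBar N (hRN hx) * mkBar N hkk = mkBar N hkk * mkBar N (hRN hx) := by
    refine commutatorElement_eq_one_iff_mul_comm.mp ?_
    have hmem : ⁅mkBar N (hRN hx), mkBar N hkk⁆ ∈ Z := hZ ▸ commutator_mem_commutator (mkBar_mem _ hx) hkK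
    obtain ⟨z, hz, ez⟩ := (mem_bar hRN).mp (hZR hmem)
    rw [← ez, mkBar_eq_one, hN]
    refine ⟨hz, mem_centralizer_iff.mpr fun v hv => ?_⟩
    have hcen : ⁅mkBar N (hVN hv), mkBar N (hRN hz)⁆ = 1 := by
      rw [← mem_bot, ← hVbot, hV']
      exact commutator_mem_commutator (mkBar_mem _ hv) (ez ▸ hmem)
    have hvz : ⁅v, z⁆ ∈ N :=
      (mkBar_comm (hVN hv) (hRN hz)).mp (commutatorElement_eq_one_iff_mul_comm.mp hcen)
    have hvz2 : ⁅v, z⁆ ∈ V := by
      rw [commutatorElement_def, mul_assoc, mul_assoc]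
      have := (mem_normalizer_iff.mp (hRV hz) v⁻¹).mp (inv_mem hv)
      exact mul_mem hv (by rw [← mul_assoc]; exact this)
    have hNV : N ⊓ V = ⊥ := Subgroup.inf_eq_bot_of_coprime
      ((IsPGroup.coprime_card_of_ne _ _ hrp _ _ hRr hVp).coprime_dvd_left (card_dvd_of_le (hN ▸ inf_le_left)))
    exact commutatorElement_eq_one_iff_mul_comm.mp (mem_bot.mp (hNV.le ⟨hvz, hvz2⟩))
  exact (hN.le ((mkBar_comm _ _).mp hxk)).2

/-- The Sylow subgroup of an invariant subgroup, as a subgroup of `Γ`. -/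
theorem Sys.exists_syl' (h : Sys A G q) {M : Subgroup Γ} (hM : M ≤ G) (hMA : A ≤ normalizer (M : Set Γ)) (r : ℕ)
    [Fact r.Prime] : ∃ R : Subgroup Γ, R ≤ M ∧ A ≤ normalizer (R : Set Γ) ∧ IsPGroup r R ∧ ¬ r ∣ R.relIndex M ∧
      ∀ U : Subgroup Γ, U ≤ M → IsPGroup r U → A ≤ normalizer (U : Set Γ) → U ≤ R := by
  obtain ⟨R, hR, hmax⟩ := h.exists_syl hM hMA r
  refine ⟨_, map_subtype_le _, hR, R.isPGroup'.map _, ?_, hmax⟩
  rw [relIndex, subgroupOf, comap_map_eq_self_of_injective M.subtype_injective]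
  exact R.not_dvd_index

/-- A subgroup containing all invariant Sylow subgroups of `M` contains `M`. -/
theorem le_of_sylows {M S : Subgroup Γ}
    (hS : ∀ r : ℕ, r.Prime → ∃ R : Subgroup Γ, R ≤ M ∧ ¬ r ∣ R.relIndex M ∧ R ≤ S) : M ≤ S := by
  rw [← relIndex_eq_one]
  by_contra hne
  obtain ⟨r, hr, hd⟩ := Nat.exists_prime_and_dvd hne
  obtain ⟨R, hRM, hRi, hRS⟩ := hS r hr
  refine hRi (hd.trans ?_)
  rw [← inf_relIndex_right S M]
  exact Dvd.intro_left _ (relIndex_mul_relIndex R (S ⊓ M) M (le_inf hRS hRM) inf_le_right)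

/-- A minimal invariant normal subgroup of an invariant solvable subgroup. -/
theorem exists_minimal (h : Sys A G q) {M : Subgroup Γ} (hM : M ≤ G) (hMA : A ≤ normalizer (M : Set Γ))
    (hs : Group.IsSolvable M) (hne : M ≠ ⊥) :
    ∃ (V : Subgroup Γ) (p : ℕ), p.Prime ∧ V ≤ M ∧ V ≠ ⊥ ∧ M ≤ normalizer (V : Set Γ) ∧
      A ≤ normalizer (V : Set Γ) ∧ IsMulCommutative V ∧ IsPGroup p V ∧
      ∀ W ≤ V, M ≤ normalizer (W : Set Γ) → A ≤ normalizer (W : Set Γ) → W ≠ ⊥ → W = V := by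
  obtain ⟨V, ⟨hVM, hV1, hVMn, hVA⟩, hmin⟩ := Set.Finite.exists_minimal
    (s := {X : Subgroup Γ | X ≤ M ∧ X ≠ ⊥ ∧ M ≤ normalizer (X : Set Γ) ∧ A ≤ normalizer (X : Set Γ)})
    (Set.toFinite _) ⟨M, le_rfl, hne, le_normalizer, hMA⟩
  have hmin' : ∀ W ≤ V, M ≤ normalizer (W : Set Γ) → A ≤ normalizer (W : Set Γ) → W ≠ ⊥ → W = V :=
    fun W hW h1 h2 h3 => le_antisymm hW (hmin ⟨hW.trans hVM, h3, h1, h2⟩ hW)
  haveI hVs : Group.IsSolvable V := Core.isSolvable_of_le hs hVM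
  have hlt : ⁅V, V⁆ < V := Core.commutator_self_lt hVs hV1
  have hc : ⁅V, V⁆ = ⊥ := by
    by_contra hne'
    exact hlt.ne (hmin' _ hlt.le (le_normalizer_commutator hVMn hVMn) (le_normalizer_commutator hVA hVA) hne')
  have hVc : ∀ a ∈ V, ∀ b ∈ V, Commute a b := fun a ha b hb =>
    commutatorElement_eq_one_iff_mul_comm.mp (mem_bot.mp (hc.le (commutator_mem_commutator ha hb)))
  obtain ⟨p, hp, hpd⟩ := Nat.exists_prime_and_dvd fun e => hV1 (card_eq_one.mp e)
  haveI := Fact.mk hp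
  let W : Subgroup Γ :=
    { carrier := {x | x ∈ V ∧ x ^ p = 1}
      one_mem' := ⟨one_mem _, one_pow _⟩
      mul_mem' := fun {a b} ha hb => ⟨mul_mem ha.1 hb.1, by rw [(hVc a ha.1 b hb.1).mul_pow, ha.2, hb.2, one_mul]⟩
      inv_mem' := fun {a} ha => ⟨inv_mem ha.1, by rw [inv_pow, ha.2, inv_one]⟩ }
  have hWn : ∀ {X : Subgroup Γ}, X ≤ normalizer (V : Set Γ) → X ≤ normalizer (W : Set Γ) := fun {X} hX => by
    rw [le_normalizer_iff]
    rintro g hg x ⟨hx, hxp⟩
    exact ⟨(mem_normalizer_iff.mp (hX hg) x).mp hx, by rw [conj_pow, hxp, mul_one, mul_inv_cancel]⟩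
  have hW1 : W ≠ ⊥ := by
    obtain ⟨x, hx⟩ := exists_prime_orderOf_dvd_card' (G := V) p hpd
    intro e
    have hxW : (x : Γ) ∈ W := ⟨x.2, by rw [← Subgroup.coe_pow, ← hx, pow_orderOf_eq_one]; rfl⟩
    have : x = 1 := Subtype.ext (mem_bot.mp (e ▸ hxW))
    rw [this, orderOf_one] at hx
    exact hp.one_lt.ne hx
  have hWV : W = V := hmin' W (fun x hx => hx.1) (hWn hVMn) (hWn hVA) hW1
  refine ⟨V, p, hp, hVM, hV1, hVMn, hVA, ⟨⟨fun a b => Subtype.ext (hVc a a.2 b b.2)⟩⟩, fun x => ⟨1, ?_⟩, hmin'⟩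
  rw [pow_one]
  exact Subtype.ext (hWV.ge x.2).2

/-- A normal `p`-subgroup centralises a minimal invariant normal `p`-subgroup. -/
theorem pGroup_centralizes {M V P : Subgroup Γ} {p : ℕ} [Fact p.Prime] (hVp : IsPGroup p V) (hV1 : V ≠ ⊥)
    (hVc : IsMulCommutative V) (hMV : M ≤ normalizer (V : Set Γ)) (hAV : A ≤ normalizer (V : Set Γ))
    (hP : IsPGroup p P) (hPV : P ≤ normalizer (V : Set Γ))
    (hfixM : M ≤ normalizer ((V ⊓ centralizer (P : Set Γ) : Subgroup Γ) : Set Γ))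
    (hfixA : A ≤ normalizer ((V ⊓ centralizer (P : Set Γ) : Subgroup Γ) : Set Γ))
    (hmin : ∀ W ≤ V, M ≤ normalizer (W : Set Γ) → A ≤ normalizer (W : Set Γ) → W ≠ ⊥ → W = V) :
    P ≤ centralizer (V : Set Γ) := by
  have hne : V ⊓ centralizer (P : Set Γ) ≠ ⊥ := by
    have hPVp : IsPGroup p ↥(V ⊔ P) := hVp.to_sup_of_normal_left' hP hPV
    haveI := hPVp.isNilpotent
    haveI : (V.subgroupOf (V ⊔ P)).Normal := normal_subgroupOf_of_le_normalizer (sup_le le_normalizer hPV)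
    have h1 := Core.inf_center_ne_bot_of_isNilpotent (V.subgroupOf (V ⊔ P)) (by
      rw [Ne, subgroupOf_eq_bot, disjoint_iff, inf_of_le_left le_sup_left]; exact hV1)
    obtain ⟨⟨z, hz⟩, hz1'⟩ := Subgroup.ne_bot_iff_exists_ne_one.mp h1
    have hz1 : z ≠ 1 := fun e => hz1' (Subtype.ext e)
    intro e
    refine hz1 (Subtype.ext (mem_bot.mp (e.le ⟨mem_subgroupOf.mp hz.1, mem_centralizer_iff.mpr fun y hy => ?_⟩)))
    exact congrArg Subtype.val (mem_center_iff.mp hz.2 ⟨y, mem_sup_right hy⟩)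
  have hall := hmin _ inf_le_left hfixM hfixA hne
  rw [le_centralizer_iff]
  exact hall.ge.trans inf_le_right

end CfsgLib.AbelianCent
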