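import Cfsg.Agent.Lib.AbelianCent.Setup
import Cfsg.Agent.Lib.Signalizer.Basic

/-!
# Frobenius sums, and the decomposition of a module into typed parts

`V` is abelian and normalised by `Y`; both lie in `G`. A part `W` of type `x ∈ A` is one centralised by
`Y ⊓ C(e)` for all operators `e` outside `⟨x⟩`.
-/

set_option autoImplicit false
set_option linter.all false

namespace CfsgLib.AbelianCent

open Subgroup
open scoped IsMulCommutative commutatorElement

variable {Γ : Type*} [Group Γ]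

/-- Conjugation by an element of the normaliser. -/
def cjv (V : Subgroup Γ) {g : Γ} (hg : g ∈ normalizer (V : Set Γ)) : V →* V where
  toFun v := ⟨g * v * g⁻¹, (mem_normalizer_iff.mp hg (v : Γ)).mp v.2⟩
  map_one' := Subtype.ext (by simp)
  map_mul' u v := Subtype.ext (by simp only [Subgroup.coe_mul]; group)

theorem coe_cjv {V : Subgroup Γ} {g : Γ} (hg : g ∈ normalizer (V : Set Γ)) (v : V) :
    (cjv V hg v : Γ) = g * v * g⁻¹ := rfl

theorem cjv_cjv {V : Subgroup Γ} {g k : Γ} (hg : g ∈ normalizer (V : Set Γ)) (hk : k ∈ normalizer (V : Set Γ))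
    (v : V) : cjv V hg (cjv V hk v) = cjv V (mul_mem hg hk) v := by
  apply Subtype.ext
  simp only [coe_cjv]
  group

theorem cjv_congr {V : Subgroup Γ} {g k : Γ} (hg : g ∈ normalizer (V : Set Γ)) (hk : k ∈ normalizer (V : Set Γ))
    (e : g = k) (v : V) : cjv V hg v = cjv V hk v := by subst e; rfl

variable [Finite Γ] {V Z : Subgroup Γ} [IsMulCommutative V]

/-- The sum over the twisted conjugates vanishes. -/
theorem prod_twist [Fintype Z] (hZV : Z ≤ normalizer (V : Set Γ)) (hV : ∀ v ∈ V, (∀ z ∈ Z, z * v = v * z) → v = 1)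
    {g : Γ} (hg : g ∈ normalizer (V : Set Γ)) (hgZ : g ∈ normalizer (Z : Set Γ))
    (hfree : ∀ z ∈ Z, z * g = g * z → z = 1) (v : V) :
    ∏ z : Z, cjv V (hZV z.2) (cjv V hg (cjv V (hZV (inv_mem z.2)) v)) = 1 := by
  let c : Z → Z := fun z => ⟨(z : Γ) * (g * (z : Γ)⁻¹ * g⁻¹), mul_mem z.2 ((mem_normalizer_iff.mp hgZ _).mp (inv_mem z.2))⟩
  have hc : Function.Bijective c := by
    refine Finite.injective_iff_bijective.mp fun y z he => ?_
    have e : (y : Γ) * g * (y : Γ)⁻¹ = (z : Γ) * g * (z : Γ)⁻¹ := by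
      have h1 : (y : Γ) * (g * (y : Γ)⁻¹ * g⁻¹) = (z : Γ) * (g * (z : Γ)⁻¹ * g⁻¹) := congrArg Subtype.val he
      calc (y : Γ) * g * (y : Γ)⁻¹ = (y : Γ) * (g * (y : Γ)⁻¹ * g⁻¹) * g := by group
        _ = (z : Γ) * g * (z : Γ)⁻¹ := by rw [h1]; group
    refine Subtype.ext (inv_mul_eq_one.mp (hfree _ (mul_mem (inv_mem z.2) y.2) ?_)).symm
    calc (z : Γ)⁻¹ * y * g = (z : Γ)⁻¹ * ((y : Γ) * g * (y : Γ)⁻¹) * y := by group
      _ = g * ((z : Γ)⁻¹ * y) := by rw [e]; group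
  have key : ∀ z : Z, cjv V (hZV z.2) (cjv V hg (cjv V (hZV (inv_mem z.2)) v)) = cjv V (hZV (c z).2) (cjv V hg v) :=
    fun z => Subtype.ext (by simp only [coe_cjv, c]; group)
  rw [Finset.prod_congr rfl fun z _ => key z,
    Fintype.prod_bijective c hc (fun z => cjv V (hZV (c z).2) (cjv V hg v)) (fun z => cjv V (hZV z.2) (cjv V hg v))
      fun z => rfl]
  refine Subtype.ext (hV _ (Subtype.prop _) fun y hy => ?_)
  set w := ∏ z : Z, cjv V (hZV z.2) (cjv V hg v) with hw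
  have : cjv V (hZV hy) w = w := by
    rw [hw, map_prod]
    exact Fintype.prod_equiv (Equiv.mulLeft (⟨y, hy⟩ : Z)) _ _ fun z =>
      Subtype.ext (by simp only [coe_cjv, Equiv.coe_mulLeft, Subgroup.coe_mul]; group)
  have e2 := congrArg Subtype.val this
  rw [coe_cjv] at e2
  exact mul_inv_eq_iff_eq_mul.mp e2

/-- The norm over the powers of an operator is fixed by it. -/
theorem norm_fixed {a : Γ} (ha : a ∈ normalizer (V : Set Γ)) {n : ℕ} (hn : a ^ n = 1) (v : V) :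
    ((∏ i ∈ Finset.range n, cjv V (pow_mem ha i) v : V) : Γ) * a =
      a * ((∏ i ∈ Finset.range n, cjv V (pow_mem ha i) v : V) : Γ) := by
  set T := ∏ i ∈ Finset.range n, cjv V (pow_mem ha i) v with hT
  have : cjv V ha T = T := by
    rcases Nat.eq_zero_or_pos n with rfl | hpos
    · simp [hT]
    obtain ⟨m, rfl⟩ := Nat.exists_eq_succ_of_ne_zero hpos.ne'
    rw [hT, map_prod]
    conv_rhs => rw [Finset.prod_range_succ']
    rw [Finset.prod_range_succ]
    congr 1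
    · exact Finset.prod_congr rfl fun i _ => Subtype.ext (by simp only [coe_cjv]; rw [pow_succ']; group)
    · apply Subtype.ext
      simp only [coe_cjv]
      rw [show a * (a ^ m * (v : Γ) * (a ^ m)⁻¹) * a⁻¹ = a ^ (m + 1) * (v : Γ) * (a ^ (m + 1))⁻¹ by
        rw [pow_succ']; group, hn, pow_zero]
  have e := congrArg Subtype.val this
  rw [coe_cjv] at e
  exact (mul_inv_eq_iff_eq_mul.mp e).symm

/-- Every element is generated by the translates of the elements fixed by a free operator. -/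
theorem translates [Fintype Z] (hZV : Z ≤ normalizer (V : Set Γ)) (hcop : (Nat.card Z).Coprime (Nat.card V))
    (hV : ∀ v ∈ V, (∀ z ∈ Z, z * v = v * z) → v = 1) {a : Γ} (ha : a ∈ normalizer (V : Set Γ))
    (haZ : a ∈ normalizer (Z : Set Γ)) {n : ℕ} (hn0 : 0 < n) (hn : a ^ n = 1)
    (hfree : ∀ i < n, i ≠ 0 → ∀ z ∈ Z, z * a ^ i = a ^ i * z → z = 1) (v : V) :
    (∏ z : Z, cjv V (hZV z.2) (∏ i ∈ Finset.range n, cjv V (pow_mem ha i) (cjv V (hZV (inv_mem z.2)) v))) =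
      v ^ Nat.card Z := by
  simp only [map_prod]
  rw [Finset.prod_comm, Finset.prod_eq_single 0 ?_ (fun h => absurd (Finset.mem_range.mpr hn0) h)]
  · rw [Finset.prod_congr rfl (g := fun _ => v) fun z _ => Subtype.ext (by simp only [coe_cjv]; group),
      Finset.prod_const, Finset.card_univ, Nat.card_eq_fintype_card]
  · intro i hi hi0
    exact prod_twist hZV hV (pow_mem ha i) (pow_mem haZ i) (hfree i (Finset.mem_range.mp hi) hi0) v

/-- A subgroup containing the translates of the fixed points contains everything. -/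
theorem le_of_translates (hZV : Z ≤ normalizer (V : Set Γ)) (hcop : (Nat.card Z).Coprime (Nat.card V))
    (hV : ∀ v ∈ V, (∀ z ∈ Z, z * v = v * z) → v = 1) {a : Γ} (ha : a ∈ normalizer (V : Set Γ))
    (haZ : a ∈ normalizer (Z : Set Γ)) {n : ℕ} (hn0 : 0 < n) (hn : a ^ n = 1)
    (hfree : ∀ i < n, i ≠ 0 → ∀ z ∈ Z, z * a ^ i = a ^ i * z → z = 1) {S : Subgroup Γ}
    (hS : ∀ z ∈ Z, ∀ w ∈ V, w * a = a * w → z * w * z⁻¹ ∈ S) : V ≤ S := by
  haveI := Fintype.ofFinite Z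
  intro v hv
  obtain ⟨w, hw⟩ := (powCoprime (G := V) hcop.symm).surjective ⟨v, hv⟩
  have h1 := translates hZV hcop hV ha haZ hn0 hn hfree w
  rw [powCoprime_apply] at hw
  rw [hw] at h1
  have h2 : (∏ z : Z, cjv V (hZV z.2) (∏ i ∈ Finset.range n, cjv V (pow_mem ha i) (cjv V (hZV (inv_mem z.2)) w))) ∈
      S.subgroupOf V :=
    prod_mem fun z _ => by
      rw [mem_subgroupOf, coe_cjv]
      exact hS z z.2 _ (Subtype.prop _) (norm_fixed ha hn _)
  rw [h1] at h2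
  exact h2

/-- An operator centralising the fixed points of another one, freely twisted, kills the module. -/
theorem eq_bot_of_twist (hZV : Z ≤ normalizer (V : Set Γ)) (hcop : (Nat.card Z).Coprime (Nat.card V))
    (hV : ∀ v ∈ V, (∀ z ∈ Z, z * v = v * z) → v = 1) {a k : Γ} (ha : a ∈ normalizer (V : Set Γ))
    (haZ : a ∈ normalizer (Z : Set Γ)) (hk : k ∈ normalizer (V : Set Γ)) (hkZ : k ∈ normalizer (Z : Set Γ))
    {n : ℕ} (hn0 : 0 < n) (hn : a ^ n = 1)
    (hfree : ∀ i < n, i ≠ 0 → ∀ z ∈ Z, z * a ^ i = a ^ i * z → z = 1)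
    (htw : ∀ i < n, ∀ z ∈ Z, z * (k * a ^ i) = k * a ^ i * z → z = 1)
    (hfix : ∀ w ∈ V, w * a = a * w → k * w = w * k) : V = ⊥ := by
  haveI := Fintype.ofFinite Z
  rw [eq_bot_iff]
  intro v hv
  obtain ⟨w, hw⟩ := (powCoprime (G := V) hcop.symm).surjective ⟨v, hv⟩
  have h1 := translates hZV hcop hV ha haZ hn0 hn hfree w
  rw [powCoprime_apply] at hw
  rw [hw] at h1
  have h0 : (∏ z : Z, cjv V (hZV z.2) (cjv V hk (∏ i ∈ Finset.range n,
      cjv V (pow_mem ha i) (cjv V (hZV (inv_mem z.2)) w)))) = 1 := by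
    simp only [map_prod]
    rw [Finset.prod_comm]
    refine Finset.prod_eq_one fun i hi => ?_
    rw [← prod_twist hZV hV (mul_mem hk (pow_mem ha i)) (mul_mem hkZ (pow_mem haZ i))
      (htw i (Finset.mem_range.mp hi)) w]
    exact Finset.prod_congr rfl fun z _ => by rw [cjv_cjv hk]
  have hfixk : ∀ u : V, (u : Γ) * a = a * u → cjv V hk u = u := fun u hu =>
    Subtype.ext (by rw [coe_cjv, hfix _ u.2 hu, mul_inv_cancel_right])
  rw [Finset.prod_congr rfl fun z _ => congrArg (cjv V (hZV z.2)) (hfixk _ (norm_fixed ha hn _)), h1] at h0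
  exact mem_bot.mpr (congrArg Subtype.val h0)

section Typed

variable {A G : Subgroup Γ} {q : ℕ}

/-- A part of the module on which only one direction acts. -/
def Typed (A Y V W : Subgroup Γ) (x : Γ) : Prop :=
  W ≤ V ∧ A ≤ normalizer (W : Set Γ) ∧ Y ≤ normalizer (W : Set Γ) ∧ x ∈ A ∧ x ≠ 1 ∧
    ∀ e ∈ A, e ∉ zpowers x → Y ⊓ centralizer ({e} : Set Γ) ≤ centralizer (W : Set Γ)

omit [IsMulCommutative V] in
theorem isMulCommutative_of_le {W : Subgroup Γ} (hWV : W ≤ V) (hV : IsMulCommutative V) : IsMulCommutative W :=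
  ⟨⟨fun a b => Subtype.ext (congrArg Subtype.val (hV.is_comm.comm ⟨a, hWV a.2⟩ ⟨b, hWV b.2⟩) : (a : Γ) * b = b * a)⟩⟩

omit [IsMulCommutative V] in
theorem free_of (h : Sys A G q) {Z : Subgroup Γ} (hZG : Z ≤ G) {x e : Γ} (hx : x ∈ A) (hx1 : x ≠ 1)
    (he : e ∈ A) (hex : e ∉ zpowers x) (hZx : Z ≤ centralizer ({x} : Set Γ)) :
    ∀ i < q, i ≠ 0 → ∀ z ∈ Z, z * e ^ i = e ^ i * z → z = 1 := by
  intro i hi hi0 z hz hzi
  refine h.fixed_two hx hx1 (pow_mem he i) (fun hin => hex ?_) (hZG hz) (mem_cent.mp (hZx hz)) hzi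
  have hne : e ^ i ≠ 1 := fun e1 => by
    have he1 : e ≠ 1 := fun e2 => hex (e2 ▸ one_mem _)
    have := orderOf_dvd_of_pow_eq_one e1
    rw [h.orderOf_eq he he1] at this
    exact absurd (Nat.le_of_dvd (Nat.pos_of_ne_zero hi0) this) (not_le.mpr hi)
  exact (h.zpowers_eq hx (pow_mem he i) hne hin) ▸
    (h.zpowers_eq he (pow_mem he i) hne (pow_mem (mem_zpowers e) i)).ge (mem_zpowers e)

/-- The module is covered by typed parts. -/
theorem typed_cover (h : Sys A G q) {Y : Subgroup Γ} (hYG : Y ≤ G) (hYA : A ≤ normalizer (Y : Set Γ))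
    {n : ℕ} {S : Subgroup Γ} :
    ∀ V : Subgroup Γ, IsMulCommutative V → V ≤ G → A ≤ normalizer (V : Set Γ) → Y ≤ normalizer (V : Set Γ) →
      (Nat.card Y).Coprime (Nat.card V) → Y.lowerCentralSeries n ≤ centralizer (V : Set Γ) →
      (∀ W x, Typed A Y V W x → W ≤ S) → V ≤ S := by
  intro V
  induction hN : Nat.card V using Nat.strong_induction_on generalizing V with
  | _ N ih =>
  intro hVc hVG hVA hVY hcop hnil hS
  subst hN
  by_cases htriv : Y ≤ centralizer (V : Set Γ)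
  · obtain ⟨x, hx, hx1⟩ := h.exists_ne_one
    exact hS V x ⟨le_rfl, hVA, hVY, hx, hx1, fun e _ _ => inf_le_left.trans htriv⟩
  have hlA : ∀ m, A ≤ normalizer (Y.lowerCentralSeries m : Set Γ) := by
    intro m
    induction m with
    | zero => exact hYA
    | succ m ihm =>
      rw [Subgroup.lowerCentralSeries_succ]
      exact le_normalizer_commutator ihm hYA
  classical
  have hex : ∃ m, Y.lowerCentralSeries (m + 1) ≤ centralizer (V : Set Γ) :=
    ⟨n, (Subgroup.lowerCentralSeries_antitone _ (Nat.le_succ n)).trans hnil⟩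
  let m := Nat.find hex
  have hm0 : ¬ Y.lowerCentralSeries m ≤ centralizer (V : Set Γ) := by
    intro hle
    rcases Nat.eq_zero_or_pos m with h0 | hpos
    · exact htriv (by rw [h0] at hle; exact hle)
    · obtain ⟨k, hk⟩ := Nat.exists_eq_succ_of_ne_zero hpos.ne'
      exact Nat.find_min hex (show k < m by omega) (by rw [hk] at hle; exact hle)
  obtain ⟨Z0, hZ0⟩ : ∃ Z0, Z0 = Y.lowerCentralSeries m := ⟨_, rfl⟩
  have hZ0Y : Z0 ≤ Y := hZ0 ▸ Subgroup.lowerCentralSeries_antitone _ (Nat.zero_le m)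
  have hZ0A : A ≤ normalizer (Z0 : Set Γ) := hZ0 ▸ hlA m
  -- one direction suffices
  obtain ⟨x, hx, hx1, hZx⟩ : ∃ x ∈ A, x ≠ 1 ∧ ¬ Z0 ⊓ centralizer ({x} : Set Γ) ≤ centralizer (V : Set Γ) := by
    by_contra hall
    push Not at hall
    exact hm0 (hZ0 ▸ h.gen (hZ0Y.trans hYG) hZ0A hall)
  obtain ⟨Z, hZd⟩ : ∃ Z, Z = Z0 ⊓ centralizer ({x} : Set Γ) := ⟨_, rfl⟩
  rw [← hZd] at hZx
  have hZ0Z : Z ≤ Z0 := hZd ▸ inf_le_left
  have hZY : Z ≤ Y := hZ0Z.trans hZ0Y
  have hZA : A ≤ normalizer (Z : Set Γ) := hZd ▸ h.inf_cent_le_normalizer hx hZ0A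
  have hZxc : Z ≤ centralizer ({x} : Set Γ) := hZd ▸ inf_le_right
  have hcentral : ∀ z ∈ Z, ∀ y ∈ Y, ∀ v ∈ V, ⁅z, y⁆ * v = v * ⁅z, y⁆ := fun z hz y hy v hv => by
    have h1 : ⁅z, y⁆ ∈ Y.lowerCentralSeries (m + 1) := by
      rw [Subgroup.lowerCentralSeries_succ, ← hZ0]
      exact commutator_mem_commutator (hZ0Z hz) hy
    exact (mem_centralizer_iff.mp (Nat.find_spec hex h1) v hv).symm
  have hZV : Z ≤ normalizer (V : Set Γ) := hZY.trans hVY
  have hcopZ : (Nat.card Z).Coprime (Nat.card V) := hcop.coprime_dvd_left (card_dvd_of_le hZY)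
  -- the splitting
  have hswap : ∀ z ∈ Z, ∀ y ∈ Y, ∀ v ∈ V, z * (y * v * y⁻¹) * z⁻¹ = y * (z * v * z⁻¹) * y⁻¹ := by
    intro z hz y hy v hv
    have hyz : ⁅z, y⁆ * (y * (z * v * z⁻¹) * y⁻¹) = y * (z * v * z⁻¹) * y⁻¹ * ⁅z, y⁆ :=
      hcentral z hz y hy _ ((mem_normalizer_iff.mp (hVY hy) _).mp ((mem_normalizer_iff.mp (hZV hz) _).mp hv))
    calc z * (y * v * y⁻¹) * z⁻¹ = ⁅z, y⁆ * (y * (z * v * z⁻¹) * y⁻¹) * ⁅z, y⁆⁻¹ := by
          rw [commutatorElement_def]; group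
      _ = y * (z * v * z⁻¹) * y⁻¹ := by rw [hyz, mul_inv_cancel_right]
  obtain ⟨V1, hV1⟩ : ∃ V1, V1 = V ⊓ centralizer (Z : Set Γ) := ⟨_, rfl⟩
  obtain ⟨V2, hV2⟩ : ∃ V2, V2 = ⁅V, Z⁆ := ⟨_, rfl⟩
  haveI := hVc
  have hsplit : V2 ⊔ V1 = V := by
    rw [hV1, hV2]
    exact Core.commutator_sup_centralizer hZV hcopZ (Or.inr (Group.isSolvable_of_comm fun a b => hVc.is_comm.comm a b))
  have hdisj : V1 ⊓ V2 = ⊥ := by rw [hV1, hV2]; exact Core.abelian_inf_eq_bot hZV hcopZ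
  have hV1A : A ≤ normalizer (V1 : Set Γ) := hV1 ▸
    (le_inf hVA (hZA.trans (Signalizer.normalizer_le_normalizer_centralizer_set Z))).trans inf_normalizer_le_normalizer_inf
  have hV1Y : Y ≤ normalizer (V1 : Set Γ) := by
    rw [le_normalizer_iff]
    intro y hy v hv
    rw [hV1] at hv ⊢
    refine ⟨(mem_normalizer_iff.mp (hVY hy) v).mp hv.1, mem_centralizer_iff.mpr fun z hz => ?_⟩
    have e : z * (y * v * y⁻¹) * z⁻¹ = y * v * y⁻¹ := by
      rw [hswap z hz y hy v hv.1, mem_centralizer_iff.mp hv.2 z hz, mul_inv_cancel_right]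
    exact mul_inv_eq_iff_eq_mul.mp e
  have hV2le : V2 ≤ V := hV2 ▸ Core.commutator_le_of_normalizes hZV
  have hV2A : A ≤ normalizer (V2 : Set Γ) := hV2 ▸ le_normalizer_commutator hVA hZA
  have hV2Y : Y ≤ normalizer (V2 : Set Γ) := by
    rw [le_normalizer_iff]
    intro y hy w hw
    have hle : V2 ≤ V2.comap (MulAut.conj y).toMonoidHom := by
      conv_lhs => rw [hV2]
      rw [commutator_le]
      intro v hv z hz
      show y * ⁅v, z⁆ * y⁻¹ ∈ V2
      have hv' : y * v * y⁻¹ ∈ V := (mem_normalizer_iff.mp (hVY hy) v).mp hv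
      have e : y * ⁅v, z⁆ * y⁻¹ = ⁅y * v * y⁻¹, z⁆ := by
        rw [commutatorElement_def, commutatorElement_def]
        have := hswap z hz y hy v⁻¹ (inv_mem hv)
        calc y * (v * z * v⁻¹ * z⁻¹) * y⁻¹ = (y * v * y⁻¹) * (y * (z * v⁻¹ * z⁻¹) * y⁻¹) := by group
          _ = (y * v * y⁻¹) * (z * (y * v⁻¹ * y⁻¹) * z⁻¹) := by rw [this]
          _ = y * v * y⁻¹ * z * (y * v * y⁻¹)⁻¹ * z⁻¹ := by group
      rw [e, hV2]
      exact commutator_mem_commutator hv' hz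
    exact hle hw
  have hlt : Nat.card V1 < Nat.card V := by
    refine lt_of_le_of_ne (Nat.le_of_dvd Nat.card_pos (card_dvd_of_le (hV1 ▸ inf_le_left))) fun e => hZx ?_
    have hVV := Subgroup.eq_of_le_of_card_ge (hV1 ▸ inf_le_left : V1 ≤ V) e.ge
    rw [le_centralizer_iff]
    exact hVV.ge.trans (hV1 ▸ inf_le_right)
  have h1 : V1 ≤ S := by
    have hle : V1 ≤ V := hV1 ▸ inf_le_left
    refine ih _ hlt V1 rfl (isMulCommutative_of_le hle hVc) (hle.trans hVG) hV1A hV1Y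
      (hcop.coprime_dvd_right (card_dvd_of_le hle)) (hnil.trans (centralizer_le hle)) ?_
    rintro W y ⟨hW, hWA, hWY, hy⟩
    exact hS W y ⟨hW.trans hle, hWA, hWY, hy⟩
  have h2 : V2 ≤ S := by
    refine hS V2 x ⟨hV2le, hV2A, hV2Y, hx, hx1, fun e he hex y hy => mem_centralizer_iff.mpr fun v hv => ?_⟩
    haveI := isMulCommutative_of_le hV2le hVc
    have he1 : e ≠ 1 := fun e1 => hex (e1 ▸ one_mem _)
    have hfix : ∀ v ∈ V2, (∀ z ∈ Z, z * v = v * z) → v = 1 := fun v hv hall =>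
      mem_bot.mp (hdisj.le ⟨hV1 ▸ ⟨hV2le hv, mem_centralizer_iff.mpr fun z hz => hall z hz⟩, hv⟩)
    have hZV2 : Z ≤ normalizer (V2 : Set Γ) := hZY.trans hV2Y
    have := le_of_translates hZV2 (hcopZ.coprime_dvd_right (card_dvd_of_le hV2le)) hfix (hV2A he) (hZA he)
      h.prime.pos (h.exp e he) (free_of h (hZY.trans hYG) hx hx1 he hex hZxc)
      (S := centralizer ({y} : Set Γ)) (fun z hz w hw hwe => ?_) hv
    · exact mem_cent.mp this
    refine mem_cent.mpr ?_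
    have hyw : y * w = w * y := h.ab e he he1 y (hYG hy.1) w (hVG (hV2le hw)) (mem_cent.mp hy.2) hwe
    have e2 : y * (z * w * z⁻¹) * y⁻¹ = z * w * z⁻¹ := by
      rw [← hswap z hz y hy.1 w (hV2le hw), hyw, mul_inv_cancel_right]
    exact (mul_inv_eq_iff_eq_mul.mp e2).symm
  exact hsplit.ge.trans (sup_le h2 h1)

/-- A nilpotent operator group has abelian image. -/
theorem commutator_centralizes (h : Sys A G q) {Y : Subgroup Γ} (hYG : Y ≤ G) (hYA : A ≤ normalizer (Y : Set Γ))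
    {n : ℕ} (hV : IsMulCommutative V) (hVG : V ≤ G) (hVA : A ≤ normalizer (V : Set Γ))
    (hVY : Y ≤ normalizer (V : Set Γ)) (hcop : (Nat.card Y).Coprime (Nat.card V))
    (hnil : Y.lowerCentralSeries n ≤ centralizer (V : Set Γ)) : ⁅Y, Y⁆ ≤ centralizer (V : Set Γ) := by
  rw [le_centralizer_iff]
  refine typed_cover h hYG hYA V hV hVG hVA hVY hcop hnil ?_
  rintro W x ⟨hW, hWA, hWY, hx, hx1, hout⟩
  rw [← le_centralizer_iff, commutator_le]
  -- each element commutes with every generator modulo the centraliser of `W`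
  let C := centralizer (W : Set Γ)
  have hCn : ∀ y ∈ Y, ∀ c ∈ C, y * c * y⁻¹ ∈ C := fun y hy c hc =>
    Core.conj_mem_of_le_normalizer (hWY.trans (Signalizer.normalizer_le_normalizer_centralizer_set W)) hy hc
  let commWith : Γ → Subgroup Γ := fun b =>
    { carrier := {a | a ∈ Y ∧ ⁅a, b⁆ ∈ C}
      one_mem' := ⟨one_mem _, by rw [commutatorElement_one_left]; exact one_mem _⟩
      mul_mem' := fun {a a'} ha ha' => ⟨mul_mem ha.1 ha'.1, by
        rw [show ⁅a * a', b⁆ = a * ⁅a', b⁆ * a⁻¹ * ⁅a, b⁆ by simp only [commutatorElement_def]; group]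
        exact mul_mem (hCn a ha.1 _ ha'.2) ha.2⟩
      inv_mem' := fun {a} ha => ⟨inv_mem ha.1, by
        rw [show ⁅a⁻¹, b⁆ = a⁻¹ * ⁅a, b⁆⁻¹ * a⁻¹⁻¹ by simp only [commutatorElement_def]; group]
        exact hCn _ (inv_mem ha.1) _ (inv_mem ha.2)⟩ }
  have hgen : ∀ e ∈ A, e ≠ 1 → ∀ b ∈ Y, b * e = e * b → ∀ f ∈ A, f ≠ 1 → ∀ a ∈ Y, a * f = f * a →
      ⁅a, b⁆ ∈ C := by
    intro e he he1 b hb hbe f hf hf1 a ha haf
    by_cases hfx : f ∈ zpowers x
    · by_cases hex : e ∈ zpowers x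
      · have hcx : ∀ g ∈ A, g ≠ 1 → g ∈ zpowers x → ∀ c : Γ, c * g = g * c → c * x = x * c :=
          fun g hg hg1 hgx c hc => mem_cent.mp (cent_zpowers_eq.le
            ((h.zpowers_eq hx hg hg1 hgx) ▸ cent_zpowers_eq.ge (mem_cent.mpr hc)))
        rw [commutatorElement_eq_one_iff_mul_comm.mpr (h.ab x hx hx1 a (hYG ha) b (hYG hb)
          (hcx f hf hf1 hfx a haf) (hcx e he he1 hex b hbe))]
        exact one_mem _
      · have hbC : b ∈ C := hout e he hex ⟨hb, mem_cent.mpr hbe⟩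
        rw [show ⁅a, b⁆ = a * b * a⁻¹ * b⁻¹ from commutatorElement_def a b]
        exact mul_mem (hCn a ha b hbC) (inv_mem hbC)
    · have haC : a ∈ C := hout f hf hfx ⟨ha, mem_cent.mpr haf⟩
      rw [show ⁅a, b⁆ = a * (b * a⁻¹ * b⁻¹) by rw [commutatorElement_def]; group]
      exact mul_mem haC (hCn b hb _ (inv_mem haC))
  intro a ha b hb
  have step : ∀ b : Γ, (∀ f ∈ A, f ≠ 1 → ∀ a ∈ Y, a * f = f * a → ⁅a, b⁆ ∈ C) → ∀ a ∈ Y, ⁅a, b⁆ ∈ C :=
    fun b hall a ha => (h.gen hYG hYA (Y := commWith b) (fun f hf hf1 a ha =>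
      ⟨ha.1, hall f hf hf1 a ha.1 (mem_cent.mp ha.2)⟩) ha).2
  refine step b (fun f hf hf1 a ha haf => ?_) a ha
  have : ⁅b, a⁆ ∈ C := step a (fun e he he1 b' hb' hbe => by
    rw [← commutatorElement_inv]
    exact inv_mem (hgen e he he1 b' hb' hbe f hf hf1 a ha haf)) b hb
  rw [← commutatorElement_inv]
  exact inv_mem this

/-- Growing from the outer centralisers to everything. -/
theorem le_of_outside (h : Sys A G q) {Y : Subgroup Γ} (hYG : Y ≤ G) (hYA : A ≤ normalizer (Y : Set Γ))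
    {n : ℕ} (hV : IsMulCommutative V) (hVG : V ≤ G) (hVA : A ≤ normalizer (V : Set Γ))
    (hVY : Y ≤ normalizer (V : Set Γ)) (hcop : (Nat.card Y).Coprime (Nat.card V))
    (hnil : Y.lowerCentralSeries n ≤ centralizer (V : Set Γ)) (hfix : V ⊓ centralizer (Y : Set Γ) = ⊥)
    {S : Subgroup Γ} {c : Γ} (hc : c ∈ A) (hc1 : c ≠ 1)
    (hS1 : ∀ e ∈ A, e ∉ zpowers c → V ⊓ centralizer ({e} : Set Γ) ≤ S)
    (hS2 : ∀ x ∈ A, x ≠ 1 → x ∉ zpowers c → Y ⊓ centralizer ({x} : Set Γ) ≤ normalizer (S : Set Γ)) : V ≤ S := by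
  refine typed_cover h hYG hYA V hV hVG hVA hVY hcop hnil ?_
  rintro W x ⟨hW, hWA, hWY, hx, hx1, hout⟩
  haveI := isMulCommutative_of_le hW hV
  have hWG : W ≤ G := hW.trans hVG
  -- `W` has no fixed point of `x`
  have hWx : ∀ e ∈ A, e ≠ 1 → e ∈ zpowers x → W ⊓ centralizer ({e} : Set Γ) = ⊥ := by
    intro e he he1 hex
    rw [eq_bot_iff, ← hfix]
    rintro w ⟨hw, hwe⟩
    refine ⟨hW hw, ?_⟩
    have hwC : Y ≤ centralizer ({w} : Set Γ) := h.gen hYG hYA fun f hf hf1 y hy => mem_cent.mpr ?_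
    · exact mem_centralizer_iff.mpr fun y hy => mem_cent.mp (hwC hy)
    by_cases hfx : f ∈ zpowers x
    · have hfe : zpowers f = zpowers e := (h.zpowers_eq hx hf hf1 hfx).trans (h.zpowers_eq hx he he1 hex).symm
      have hye : y * e = e * y := mem_cent.mp (cent_zpowers_eq.le (hfe ▸ cent_zpowers_eq.ge hy.2))
      exact h.ab e he he1 y (hYG hy.1) w (hWG hw) hye (mem_cent.mp hwe)
    · exact (mem_centralizer_iff.mp (hout f hf hfx hy) w hw).symm
  by_cases hxc : x ∈ zpowers c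
  · refine h.gen_outside hWG hWA hWx fun e he hex => (inf_le_inf_right _ hW).trans (hS1 e he fun hec => hex ?_)
    rw [h.zpowers_eq hc hx hx1 hxc]; exact hec
  -- translate the fixed points of a third operator
  obtain ⟨e, he, hec, hex⟩ := h.exists_outside hc hx
  obtain ⟨Z, hZ⟩ : ∃ Z, Z = Y ⊓ centralizer ({x} : Set Γ) := ⟨_, rfl⟩
  have hZY : Z ≤ Y := hZ ▸ inf_le_left
  refine le_of_translates (hZY.trans hWY) ((hcop.coprime_dvd_left (card_dvd_of_le hZY)).coprime_dvd_right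
    (card_dvd_of_le hW)) (fun w hw hall => ?_) (hWA he) ((hZ ▸ h.inf_cent_le_normalizer hx hYA) he)
    h.prime.pos (h.exp e he) (free_of h (hZY.trans hYG) hx hx1 he hex (hZ ▸ inf_le_right)) fun z hz w hw hwe => ?_
  · have hwC : Y ≤ centralizer ({w} : Set Γ) := h.gen hYG hYA fun f hf hf1 y hy => mem_cent.mpr ?_
    · exact mem_bot.mp (hfix.le ⟨hW hw, mem_centralizer_iff.mpr fun y hy => mem_cent.mp (hwC hy)⟩)
    by_cases hfx : f ∈ zpowers x
    · refine hall y (hZ ▸ ⟨hy.1, cent_zpowers_eq.le ((h.zpowers_eq hx hf hf1 hfx) ▸ cent_zpowers_eq.ge hy.2)⟩)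
    · exact (mem_centralizer_iff.mp (hout f hf hfx hy) w hw).symm
  · exact (mem_normalizer_iff.mp ((hS2 x hx hx1 hxc) (hZ ▸ hz)) w).mp (hS1 e he hec ⟨hW hw, mem_cent.mpr hwe⟩)

/-- A module without fixed points meets all but one direction. -/
theorem exists_directions (h : Sys A G q) {Y : Subgroup Γ} (hYG : Y ≤ G) (hYA : A ≤ normalizer (Y : Set Γ))
    {n : ℕ} (hV : IsMulCommutative V) (hVG : V ≤ G) (hVA : A ≤ normalizer (V : Set Γ))
    (hVY : Y ≤ normalizer (V : Set Γ)) (hcop : (Nat.card Y).Coprime (Nat.card V))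
    (hnil : Y.lowerCentralSeries n ≤ centralizer (V : Set Γ)) (hfix : V ⊓ centralizer (Y : Set Γ) = ⊥)
    (hne : V ≠ ⊥) : ∃ x ∈ A, x ≠ 1 ∧ ∀ e ∈ A, e ∉ zpowers x → V ⊓ centralizer ({e} : Set Γ) ≠ ⊥ := by
  by_contra hall
  push Not at hall
  refine hne (le_bot_iff.mp (typed_cover h hYG hYA V hV hVG hVA hVY hcop hnil ?_))
  rintro W x ⟨hW, hWA, hWY, hx, hx1, hout⟩
  obtain ⟨e, he, hex, he0⟩ := hall x hx hx1
  haveI := isMulCommutative_of_le hW hV
  refine le_of_translates (Z := Y ⊓ centralizer ({x} : Set Γ)) (inf_le_left.trans hWY)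
    ((hcop.coprime_dvd_left (card_dvd_of_le inf_le_left)).coprime_dvd_right (card_dvd_of_le hW))
    (fun w hw hfz => ?_) (hWA he) ((h.inf_cent_le_normalizer hx hYA) he) h.prime.pos (h.exp e he)
    (free_of h (inf_le_left.trans hYG) hx hx1 he hex inf_le_right) fun z hz w hw hwe => ?_
  · have hwC : Y ≤ centralizer ({w} : Set Γ) := h.gen hYG hYA fun f hf hf1 y hy => mem_cent.mpr ?_
    · exact mem_bot.mp (hfix.le ⟨hW hw, mem_centralizer_iff.mpr fun y hy => mem_cent.mp (hwC hy)⟩)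
    by_cases hfx : f ∈ zpowers x
    · exact hfz y ⟨hy.1, cent_zpowers_eq.le ((h.zpowers_eq hx hf hf1 hfx) ▸ cent_zpowers_eq.ge hy.2)⟩
    · exact (mem_centralizer_iff.mp (hout f hf hfx hy) w hw).symm
  · have : w = 1 := mem_bot.mp (he0.le ⟨hW hw, mem_cent.mpr hwe⟩)
    simp [this]

end Typed

end CfsgLib.AbelianCent
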