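import Cfsg.Agent.Lib.AbelianCent.Module

/-!
# Invariant Sylow subgroups and passage to sections
-/

set_option autoImplicit false
set_option linter.all false

namespace CfsgLib.AbelianCent

open Subgroup
open scoped commutatorElement

variable {Γ : Type*} [Group Γ] [Finite Γ] {A G : Subgroup Γ} {q : ℕ}

namespace Sys

variable (h : Sys A G q)
include h

/-- An invariant Sylow subgroup of an invariant subgroup; it contains every invariant subgroup of its kind. -/
theorem exists_syl {M : Subgroup Γ} (hM : M ≤ G) (hMA : A ≤ normalizer (M : Set Γ)) (r : ℕ) [Fact r.Prime] :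
    ∃ R : Sylow r M, A ≤ normalizer ((R : Subgroup M).map M.subtype : Set Γ) ∧
      ∀ U : Subgroup Γ, U ≤ M → IsPGroup r U → A ≤ normalizer (U : Set Γ) → U ≤ (R : Subgroup M).map M.subtype := by
  obtain ⟨R, hR⟩ := Core.exists_invariant_sylow hMA (h.coprime hM) (Or.inl h.solvable_A) r
  refine ⟨R, hR, fun U hU hUp hUA => ?_⟩
  obtain ⟨P, hUP, hP⟩ := Core.exists_invariant_sylow_ge hMA (h.coprime hM) (Or.inl h.solvable_A) hU hUp hUA
  obtain ⟨c, hc, hcP⟩ := Core.invariant_sylow_conj hMA (h.coprime hM) (Or.inl h.solvable_A) R P hR hP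
  have hc1 : c = 1 := Subtype.ext (h.fpf c (hM c.2) fun a ha => (mem_centralizer_iff.mp hc a ha).symm)
  rw [hc1, one_smul] at hcP
  rwa [hcP]

end Sys

omit [Finite Γ] in
theorem normalizer_subgroupOf {H X : Subgroup Γ} {a : H} (ha : (a : Γ) ∈ normalizer (X : Set Γ)) :
    a ∈ normalizer ((X.subgroupOf H : Subgroup H) : Set H) := by
  rw [mem_normalizer_iff]
  intro x
  simp only [mem_subgroupOf, Subgroup.coe_mul, Subgroup.coe_inv]
  exact mem_normalizer_iff.mp ha x

/-- The setup restricts to a subgroup containing the operators. -/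
theorem Sys.sub (h : Sys A G q) {H : Subgroup Γ} (hA : A ≤ H) :
    Sys (A.subgroupOf H) (G.subgroupOf H) q := by
  refine ⟨h.prime, ?_, fun a ha => Subtype.ext (h.exp a (mem_subgroupOf.mp ha)), ⟨⟨fun a b => ?_⟩⟩,
    fun a ha => normalizer_subgroupOf (h.norm (mem_subgroupOf.mp ha)), ?_, ?_, ?_⟩
  · rw [← h.card]; exact Nat.card_congr (subgroupOfEquivOfLe hA).toEquiv
  · exact Subtype.ext (Subtype.ext (h.A_comm (mem_subgroupOf.mp a.2) (mem_subgroupOf.mp b.2)))
  · refine fun hd => h.ndvd (hd.trans ?_)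
    rw [← inf_subgroupOf_right G H, Nat.card_congr (subgroupOfEquivOfLe (inf_le_right : G ⊓ H ≤ H)).toEquiv]
    exact card_dvd_of_le inf_le_left
  · intro a ha h1 x hx y hy hxa hya
    exact Subtype.ext (h.ab a (mem_subgroupOf.mp ha) (fun e => h1 (Subtype.ext e)) x (mem_subgroupOf.mp hx) y
      (mem_subgroupOf.mp hy) (congrArg Subtype.val hxa) (congrArg Subtype.val hya))
  · intro x hx hall
    exact Subtype.ext (h.fpf x (mem_subgroupOf.mp hx) fun a ha =>
      congrArg Subtype.val (hall ⟨a, hA ha⟩ (mem_subgroupOf.mpr ha)))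

/-! ### Sections -/

section Bar

variable (N : Subgroup Γ)

/-- The section `N(N) / N`. -/
abbrev Bar : Type _ := ↥(normalizer (N : Set Γ)) ⧸ N.subgroupOf (normalizer (N : Set Γ))

/-- The image of a subgroup in the section. -/
def bar (X : Subgroup Γ) : Subgroup (Bar N) :=
  (X.subgroupOf (normalizer (N : Set Γ))).map (QuotientGroup.mk' _)

/-- The image of an element. -/
def mkBar {x : Γ} (hx : x ∈ normalizer (N : Set Γ)) : Bar N := QuotientGroup.mk' _ ⟨x, hx⟩

variable {N}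

omit [Finite Γ] in
theorem mkBar_mem {X : Subgroup Γ} {x : Γ} (hx : x ∈ normalizer (N : Set Γ)) (hxX : x ∈ X) : mkBar N hx ∈ bar N X :=
  ⟨⟨x, hx⟩, mem_subgroupOf.mpr hxX, rfl⟩

omit [Finite Γ] in
theorem mem_bar {X : Subgroup Γ} (hX : X ≤ normalizer (N : Set Γ)) {z : Bar N} :
    z ∈ bar N X ↔ ∃ x, ∃ hx : x ∈ X, mkBar N (hX hx) = z := by
  constructor
  · rintro ⟨⟨x, hx⟩, hxX, rfl⟩
    exact ⟨x, mem_subgroupOf.mp hxX, rfl⟩
  · rintro ⟨x, hx, rfl⟩
    exact mkBar_mem _ hx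

omit [Finite Γ] in
theorem mkBar_eq_one {x : Γ} (hx : x ∈ normalizer (N : Set Γ)) : mkBar N hx = 1 ↔ x ∈ N := by
  rw [mkBar, QuotientGroup.mk'_apply, QuotientGroup.eq_one_iff, mem_subgroupOf]

omit [Finite Γ] in
theorem mkBar_comm {x y : Γ} (hx : x ∈ normalizer (N : Set Γ)) (hy : y ∈ normalizer (N : Set Γ)) :
    mkBar N hx * mkBar N hy = mkBar N hy * mkBar N hx ↔ ⁅x, y⁆ ∈ N := by
  rw [← commutatorElement_eq_one_iff_mul_comm]
  show ⁅QuotientGroup.mk' _ _, QuotientGroup.mk' _ _⁆ = 1 ↔ _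
  rw [← map_commutatorElement, QuotientGroup.mk'_apply, QuotientGroup.eq_one_iff, mem_subgroupOf]
  rfl

omit [Finite Γ] in
theorem mkBar_comm_of {x y : Γ} (hx : x ∈ normalizer (N : Set Γ)) (hy : y ∈ normalizer (N : Set Γ))
    (e : x * y = y * x) : mkBar N hx * mkBar N hy = mkBar N hy * mkBar N hx := by
  rw [mkBar_comm, commutatorElement_eq_one_iff_mul_comm.mpr e]
  exact one_mem N

omit [Finite Γ] in
theorem bar_mono {X Y : Subgroup Γ} (hXY : X ≤ Y) : bar N X ≤ bar N Y :=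
  map_mono fun _ hx => mem_subgroupOf.mpr (hXY (mem_subgroupOf.mp hx))

omit [Finite Γ] in
theorem bar_le_normalizer {X Y : Subgroup Γ} (hX : X ≤ normalizer (Y : Set Γ)) :
    bar N X ≤ normalizer (bar N Y : Set (Bar N)) :=
  (map_mono fun _ hx => normalizer_subgroupOf (hX (mem_subgroupOf.mp hx))).trans (le_normalizer_map _)

theorem bar_commutator {X Y : Subgroup Γ} (hX : X ≤ normalizer (N : Set Γ)) (hY : Y ≤ normalizer (N : Set Γ)) :
    ⁅bar N X, bar N Y⁆ = bar N ⁅X, Y⁆ := by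
  rw [bar, bar, bar, ← map_commutator]
  congr 1
  refine Subgroup.map_injective (normalizer (N : Set Γ)).subtype_injective ?_
  rw [map_commutator, subgroupOf_map_subtype, subgroupOf_map_subtype, subgroupOf_map_subtype, inf_eq_left.mpr hX,
    inf_eq_left.mpr hY, inf_eq_left.mpr]
  exact (commutator_mono hX hY).trans
    ((commutator_le.mpr fun a ha b hb => mul_mem (mul_mem (mul_mem ha hb) (inv_mem ha)) (inv_mem hb)))

theorem card_bar_dvd {X : Subgroup Γ} (hX : X ≤ normalizer (N : Set Γ)) : Nat.card (bar N X) ∣ Nat.card X := by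
  refine (card_map_dvd _ _).trans (dvd_of_eq ?_)
  exact Nat.card_congr (subgroupOfEquivOfLe hX).toEquiv

omit [Finite Γ] in
theorem isPGroup_bar {p : ℕ} {X : Subgroup Γ} (hp : IsPGroup p X) : IsPGroup p (bar N X) :=
  (hp.comap_of_injective _ (normalizer (N : Set Γ)).subtype_injective).map _

omit [Finite Γ] in
theorem isMulCommutative_bar {X : Subgroup Γ} (hX : X ≤ normalizer (N : Set Γ))
    (hc : ∀ a ∈ X, ∀ b ∈ X, ⁅a, b⁆ ∈ N) : IsMulCommutative (bar N X) := by
  refine ⟨⟨fun u v => Subtype.ext ?_⟩⟩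
  obtain ⟨a, ha, eu⟩ := (mem_bar hX).mp u.2
  obtain ⟨b, hb, ev⟩ := (mem_bar hX).mp v.2
  show (u : Bar N) * v = v * u
  rw [← eu, ← ev, mkBar_comm]
  exact hc a ha b hb

/-- The setup passes to a section by a coprime invariant subgroup. -/
theorem Sys.bar (h : Sys A G q) (hNG : N ≤ G) (hN : A ≤ normalizer (N : Set Γ)) :
    Sys (bar N A) (bar N G) q := by
  refine (h.sub hN).map _ fun a ha he => ?_
  rw [QuotientGroup.mk'_apply, QuotientGroup.eq_one_iff, mem_subgroupOf] at he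
  have : A ⊓ N = ⊥ := Subgroup.inf_eq_bot_of_coprime (h.coprime hNG)
  exact Subtype.ext (mem_bot.mp (this.le ⟨mem_subgroupOf.mp ha, he⟩))

/-- Lifting fixed points. -/
theorem Sys.bar_lift (h : Sys A G q) (hNG : N ≤ G) {X : Subgroup Γ} (hXG : X ≤ G) (hX : X ≤ normalizer (N : Set Γ))
    (hXA : A ≤ normalizer (X : Set Γ)) (hN : A ≤ normalizer (N : Set Γ)) {a : Γ} (ha : a ∈ A) {z : Bar N}
    (hz : z ∈ AbelianCent.bar N X) (hza : z * mkBar N (hN ha) = mkBar N (hN ha) * z) :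
    ∃ x, ∃ hx : x ∈ X, x * a = a * x ∧ mkBar N (hX hx) = z := by
  obtain ⟨x, hx, rfl⟩ := (mem_bar hX).mp hz
  obtain ⟨y, hy, e⟩ := (h.sub hN).lift (QuotientGroup.mk' (N.subgroupOf (normalizer (N : Set Γ))))
    (a := ⟨a, hN ha⟩) (mem_subgroupOf.mpr ha) (X := X.subgroupOf _) (fun u hu => mem_subgroupOf.mpr (hXG (mem_subgroupOf.mp hu)))
    (fun u hu => normalizer_subgroupOf (hXA (mem_subgroupOf.mp hu))) (x := ⟨x, hX hx⟩) (mem_subgroupOf.mpr hx) hza
  exact ⟨y, mem_subgroupOf.mp hy.1, congrArg Subtype.val (mem_cent.mp hy.2), e⟩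

end Bar

/-- The Frattini argument. -/
theorem frattini_le {M N R : Subgroup Γ} {r : ℕ} [Fact r.Prime] (hRN : R ≤ N) (hNM : N ≤ M)
    (hMN : M ≤ normalizer (N : Set Γ)) (hR : IsPGroup r R) (hidx : ¬ r ∣ R.relIndex N) :
    M ≤ (M ⊓ normalizer (R : Set Γ)) ⊔ N := by
  haveI : (N.subgroupOf M).Normal := normal_subgroupOf_of_le_normalizer hMN
  let R0 : Subgroup ↥(N.subgroupOf M) := (R.subgroupOf M).subgroupOf (N.subgroupOf M)
  have hR0 : IsPGroup r R0 :=
    (hR.comap_of_injective _ M.subtype_injective).comap_of_injective _ (N.subgroupOf M).subtype_injective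
  have hidx0 : ¬ r ∣ R0.index := by
    have : R0.index = R.relIndex N := by
      show (R.subgroupOf M).relIndex (N.subgroupOf M) = _
      exact relIndex_subgroupOf hNM
    rwa [this]
  let P : Sylow r ↥(N.subgroupOf M) := hR0.toSylow hidx0
  intro m hm
  have htop := Sylow.normalizer_sup_eq_top P
  have hmem : (⟨m, hm⟩ : M) ∈ normalizer (((P : Subgroup _).map (N.subgroupOf M).subtype : Subgroup M) : Set M) ⊔
      N.subgroupOf M := htop ▸ mem_top _
  have hPmap : (P : Subgroup _).map (N.subgroupOf M).subtype = R.subgroupOf M := by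
    show R0.map (N.subgroupOf M).subtype = R.subgroupOf M
    exact map_subgroupOf_eq_of_le fun x hx => mem_subgroupOf.mpr (hRN (mem_subgroupOf.mp hx))
  rw [hPmap] at hmem
  have := mem_map_of_mem M.subtype hmem
  rw [Subgroup.map_sup, subgroupOf_map_subtype, inf_eq_left.mpr hNM] at this
  refine (sup_le ?_ le_sup_right : _ ⊔ N ≤ _) this
  refine le_trans ?_ le_sup_left
  rintro _ ⟨y, hy, rfl⟩
  refine ⟨y.2, ?_⟩
  show (y : Γ) ∈ normalizer (R : Set Γ)
  rw [mem_normalizer_iff]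
  intro x
  have hy' := mem_normalizer_iff.mp hy
  constructor
  · intro hx
    exact mem_subgroupOf.mp ((hy' ⟨x, hNM (hRN hx)⟩).mp (mem_subgroupOf.mpr hx))
  · intro hx
    have hxM : x ∈ M := by
      have := mul_mem (mul_mem (inv_mem y.2) (hNM (hRN hx))) y.2
      simpa [mul_assoc] using this
    exact mem_subgroupOf.mp ((hy' ⟨x, hxM⟩).mpr (mem_subgroupOf.mpr hx))

end CfsgLib.AbelianCent
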