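import Cfsg.Agent.Lib.Core.Coprime
import Cfsg.Agent.Lib.LocalEven.Generation

/-!
# A fixed point free operator group of order `q ^ 2` with abelian centralisers: the setup
-/

set_option autoImplicit false
set_option linter.all false

namespace CfsgLib.AbelianCent

open Subgroup

variable {Γ : Type*} [Group Γ]

/-- Being centralised. -/
theorem mem_cent {a x : Γ} : x ∈ centralizer ({a} : Set Γ) ↔ x * a = a * x := mem_centralizer_singleton_iff

/-- A commutator of normalised subgroups is normalised. -/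
theorem le_normalizer_commutator {A X Y : Subgroup Γ} (hX : A ≤ normalizer (X : Set Γ))
    (hY : A ≤ normalizer (Y : Set Γ)) : A ≤ normalizer ((⁅X, Y⁆ : Subgroup Γ) : Set Γ) := by
  intro a ha
  rw [mem_normalizer_iff_map_conj_eq]
  have h1 : X.map (MulAut.conj a).toMonoidHom = X := by
    have := mem_normalizer_iff_map_conj_eq.mp (hX ha); exact this
  have h2 : Y.map (MulAut.conj a).toMonoidHom = Y := by
    have := mem_normalizer_iff_map_conj_eq.mp (hY ha); exact this
  show (⁅X, Y⁆).map (MulAut.conj a).toMonoidHom = ⁅X, Y⁆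
  rw [map_commutator, h1, h2]

/-- `A` has order `q ^ 2` and exponent `q`, acts coprimely and without fixed points on `G`, and the centralisers
in `G` of its non-trivial elements are abelian. -/
structure Sys (A G : Subgroup Γ) (q : ℕ) : Prop where
  prime : q.Prime
  card : Nat.card A = q ^ 2
  exp : ∀ a ∈ A, a ^ q = 1
  comm : IsMulCommutative A
  norm : A ≤ normalizer (G : Set Γ)
  ndvd : ¬ q ∣ Nat.card G
  ab : ∀ a ∈ A, a ≠ 1 → ∀ x ∈ G, ∀ y ∈ G, x * a = a * x → y * a = a * y → x * y = y * x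
  fpf : ∀ x ∈ G, (∀ a ∈ A, x * a = a * x) → x = 1

variable {A G : Subgroup Γ} {q : ℕ}

namespace Sys

variable (h : Sys A G q)
include h

theorem mono [Finite Γ] {H : Subgroup Γ} (hH : H ≤ G) (hn : A ≤ normalizer (H : Set Γ)) : Sys A H q :=
  ⟨h.prime, h.card, h.exp, h.comm, hn, fun hd => h.ndvd (hd.trans (card_dvd_of_le hH)),
    fun a ha h1 x hx y hy => h.ab a ha h1 x (hH hx) y (hH hy), fun x hx => h.fpf x (hH hx)⟩

theorem A_comm {a b : Γ} (ha : a ∈ A) (hb : b ∈ A) : a * b = b * a :=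
  congrArg Subtype.val (h.comm.is_comm.comm ⟨a, ha⟩ ⟨b, hb⟩)

theorem solvable_A : Group.IsSolvable A := Group.isSolvable_of_comm fun a b => h.comm.is_comm.comm a b

theorem coprime [Finite Γ] {X : Subgroup Γ} (hX : X ≤ G) : (Nat.card A).Coprime (Nat.card X) := by
  rw [h.card]
  exact ((Nat.Prime.coprime_iff_not_dvd h.prime).mpr fun hd => h.ndvd (hd.trans (card_dvd_of_le hX))).pow_left 2

theorem orderOf_eq {a : Γ} (ha : a ∈ A) (h1 : a ≠ 1) : orderOf a = q :=
  haveI := Fact.mk h.prime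
  orderOf_eq_prime (h.exp a ha) h1

theorem card_zpowers {a : Γ} (ha : a ∈ A) (h1 : a ≠ 1) : Nat.card (zpowers a) = q := by
  rw [Nat.card_zpowers, h.orderOf_eq ha h1]

theorem cent_le_normalizer {a : Γ} (ha : a ∈ A) : A ≤ normalizer (centralizer ({a} : Set Γ) : Set Γ) :=
  fun b hb => le_normalizer (mem_cent.mpr (h.A_comm hb ha))

theorem inf_cent_le_normalizer {a : Γ} (ha : a ∈ A) {X : Subgroup Γ} (hX : A ≤ normalizer (X : Set Γ)) :
    A ≤ normalizer ((X ⊓ centralizer ({a} : Set Γ) : Subgroup Γ) : Set Γ) :=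
  (le_inf hX (h.cent_le_normalizer ha)).trans inf_normalizer_le_normalizer_inf

theorem zpowers_eq [Finite Γ] {a b : Γ} (ha : a ∈ A) (hb : b ∈ A) (hb1 : b ≠ 1) (hab : b ∈ zpowers a) :
    zpowers b = zpowers a := by
  have ha1 : a ≠ 1 := by
    rintro rfl
    exact hb1 (by simpa using hab)
  exact Subgroup.eq_of_le_of_card_ge (zpowers_le.mpr hab) (by rw [h.card_zpowers ha ha1, h.card_zpowers hb hb1])

/-- Two independent operators generate. -/
theorem sup_eq [Finite Γ] {a b : Γ} (ha : a ∈ A) (ha1 : a ≠ 1) (hb : b ∈ A) (hba : b ∉ zpowers a) :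
    zpowers a ⊔ zpowers b = A := by
  have hle : zpowers a ⊔ zpowers b ≤ A := sup_le (zpowers_le.mpr ha) (zpowers_le.mpr hb)
  refine Subgroup.eq_of_le_of_card_ge hle ?_
  obtain ⟨i, hi, hc⟩ := (Nat.dvd_prime_pow h.prime).mp (h.card ▸ card_dvd_of_le hle)
  have hq := card_dvd_of_le (le_sup_left : zpowers a ≤ zpowers a ⊔ zpowers b)
  rw [h.card_zpowers ha ha1, hc] at hq
  interval_cases i
  · exact absurd (Nat.le_of_dvd one_pos (by simpa using hq)) (not_le.mpr h.prime.one_lt)
  · exfalso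
    have := Subgroup.eq_of_le_of_card_ge (le_sup_left : zpowers a ≤ zpowers a ⊔ zpowers b)
      (by rw [h.card_zpowers ha ha1, hc, pow_one])
    exact hba (this.ge (mem_sup_right (mem_zpowers b)))
  · rw [hc, h.card]

theorem fixed_two [Finite Γ] {a b x : Γ} (ha : a ∈ A) (ha1 : a ≠ 1) (hb : b ∈ A) (hba : b ∉ zpowers a)
    (hx : x ∈ G) (hxa : x * a = a * x) (hxb : x * b = b * x) : x = 1 := by
  refine h.fpf x hx fun c hc => (mem_cent.mp ?_).symm
  exact (sup_le (zpowers_le.mpr (mem_cent.mpr hxa.symm)) (zpowers_le.mpr (mem_cent.mpr hxb.symm)) :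
    zpowers a ⊔ zpowers b ≤ centralizer ({x} : Set Γ)) ((h.sup_eq ha ha1 hb hba).ge hc)

/-- An operator outside two given cyclic subgroups. -/
theorem exists_outside [Finite Γ] {a b : Γ} (ha : a ∈ A) (hb : b ∈ A) :
    ∃ e ∈ A, e ∉ zpowers a ∧ e ∉ zpowers b := by
  by_contra hall
  push Not at hall
  classical
  haveI := Fintype.ofFinite Γ
  have hle : ∀ c ∈ A, Nat.card (zpowers c) ≤ q := fun c hc => by
    rw [Nat.card_zpowers]
    exact Nat.le_of_dvd h.prime.pos (orderOf_dvd_of_pow_eq_one (h.exp c hc))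
  let sA := (A : Set Γ).toFinset
  have hsub : sA ⊆ ((zpowers a : Set Γ).toFinset) ∪ ((zpowers b : Set Γ).toFinset.erase 1) := by
    intro e he
    have heA : e ∈ A := by simpa [sA] using he
    by_cases hea : e ∈ zpowers a
    · exact Finset.mem_union_left _ (by simpa using hea)
    · refine Finset.mem_union_right _ (Finset.mem_erase.mpr ⟨fun e1 => hea (e1 ▸ one_mem _), ?_⟩)
      simpa using hall e heA hea
  have hA : sA.card = Nat.card A := by
    rw [Set.toFinset_card, ← Nat.card_eq_fintype_card]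
    rfl
  have h1 : ((zpowers a : Set Γ).toFinset).card ≤ q := by
    rw [Set.toFinset_card, ← Nat.card_eq_fintype_card]
    exact hle a ha
  have h2 : ((zpowers b : Set Γ).toFinset.erase 1).card ≤ q - 1 := by
    rw [Finset.card_erase_of_mem (by simp)]
    refine Nat.sub_le_sub_right ?_ 1
    rw [Set.toFinset_card, ← Nat.card_eq_fintype_card]
    exact hle b hb
  have h3 := (Finset.card_le_card hsub).trans (Finset.card_union_le _ _)
  rw [hA, h.card, sq] at h3
  have : 2 * q ≤ q * q := Nat.mul_le_mul_right q h.prime.two_le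
  have := h.prime.pos
  omega

theorem exists_ne_one [Finite Γ] : ∃ a ∈ A, a ≠ 1 := by
  obtain ⟨e, he, hea, -⟩ := h.exists_outside (one_mem A) (one_mem A)
  exact ⟨e, he, fun e1 => hea (by rw [e1]; exact one_mem _)⟩

/-- Generation by centralisers. -/
theorem gen [Finite Γ] {X Y : Subgroup Γ} (hX : X ≤ G) (hXn : A ≤ normalizer (X : Set Γ))
    (hc : ∀ a ∈ A, a ≠ 1 → X ⊓ centralizer ({a} : Set Γ) ≤ Y) : X ≤ Y :=
  haveI := Fact.mk h.prime
  haveI := h.comm
  LocalEven.le_of_centralizers_le h.exp h.card.ge hXn (fun hd => h.ndvd (hd.trans (card_dvd_of_le hX))) hc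

/-- An invariant subgroup is generated by the centralisers outside one cyclic subgroup, if the inside one is trivial. -/
theorem gen_outside [Finite Γ] {X Y : Subgroup Γ} (hX : X ≤ G) (hXn : A ≤ normalizer (X : Set Γ)) {c : Γ}
    (hc : ∀ a ∈ A, a ≠ 1 → a ∈ zpowers c → X ⊓ centralizer ({a} : Set Γ) = ⊥)
    (ho : ∀ a ∈ A, a ∉ zpowers c → X ⊓ centralizer ({a} : Set Γ) ≤ Y) : X ≤ Y :=
  h.gen hX hXn fun a ha ha1 => by
    by_cases hac : a ∈ zpowers c
    · rw [hc a ha ha1 hac]; exact bot_le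
    · exact ho a ha hac

end Sys

theorem cent_zpowers_eq {a : Γ} : centralizer ((zpowers a : Subgroup Γ) : Set Γ) = centralizer ({a} : Set Γ) := by
  refine le_antisymm (fun x hx => mem_cent.mpr (mem_centralizer_iff.mp hx a (mem_zpowers a)).symm) fun x hx =>
    mem_centralizer_iff.mpr fun y hy => ?_
  exact mem_cent.mp ((zpowers_le.mpr (mem_cent.mpr (mem_cent.mp hx).symm) : zpowers a ≤ centralizer ({x} : Set Γ)) hy)

/-- Commutators centralised by the operators, transported by a homomorphism. -/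
theorem Sys.lift [Finite Γ] (h : Sys A G q) {Δ : Type*} [Group Δ] (f : Γ →* Δ) {a : Γ} (ha : a ∈ A)
    {X : Subgroup Γ} (hX : X ≤ G) (hXn : A ≤ normalizer (X : Set Γ)) {x : Γ} (hx : x ∈ X)
    (hf : f x * f a = f a * f x) : ∃ y ∈ X ⊓ centralizer ({a} : Set Γ), f y = f x := by
  haveI := h.comm
  obtain ⟨n, hn, hc⟩ := Core.exists_centralizing_in_coset (A := zpowers a) (N := X ⊓ f.ker) (k := x)
    ((zpowers_le.mpr ha).trans ((le_inf hXn (Core.le_normalizer_of_normal _ f.ker)).trans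
      inf_normalizer_le_normalizer_inf))
    ((h.coprime (inf_le_left.trans hX)).coprime_dvd_left (card_dvd_of_le (zpowers_le.mpr ha)))
    (Or.inl (Group.isSolvable_of_comm fun u v => by
      obtain ⟨_, i, rfl⟩ := u
      obtain ⟨_, j, rfl⟩ := v
      exact Subtype.ext (zpow_mul_comm a i j)))
    (fun b hb => by
      refine mem_inf.mpr ⟨mul_mem (inv_mem hx) ?_, ?_⟩
      · exact Core.conj_mem_of_le_normalizer ((zpowers_le.mpr ha).trans hXn) hb hx
      · rw [MonoidHom.mem_ker]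
        obtain ⟨i, rfl⟩ := mem_zpowers_iff.mp hb
        rw [map_mul, map_mul, map_mul, map_inv, map_inv, map_zpow,
          ← ((Commute.zpow_right (show Commute (f x) (f a) from hf) i)).eq]
        group)
  refine ⟨x * n, ⟨mul_mem hx hn.1, cent_zpowers_eq.le hc⟩, ?_⟩
  rw [map_mul, MonoidHom.mem_ker.mp hn.2, mul_one]

/-- The setup passes to homomorphic images. -/
theorem Sys.map [Finite Γ] (h : Sys A G q) {Δ : Type*} [Group Δ] [Finite Δ] (f : Γ →* Δ)
    (hinj : ∀ a ∈ A, f a = 1 → a = 1) : Sys (A.map f) (G.map f) q := by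
  have hfi : Function.Injective (f.comp A.subtype) := (injective_iff_map_eq_one _).mpr fun a ha =>
    Subtype.ext (hinj a a.2 ha)
  refine ⟨h.prime, ?_, ?_, ⟨⟨fun a b => ?_⟩⟩, (Subgroup.map_mono h.norm).trans (le_normalizer_map f), ?_, ?_, ?_⟩
  · rw [← h.card]
    refine Nat.card_congr (Equiv.ofBijective (fun a : A => (⟨f a, mem_map_of_mem f a.2⟩ : A.map f)) ⟨?_, ?_⟩).symm
    · exact fun a b e => hfi (congrArg Subtype.val e)
    · rintro ⟨_, a, ha, rfl⟩; exact ⟨⟨a, ha⟩, rfl⟩
  · rintro _ ⟨a, ha, rfl⟩; rw [← map_pow, h.exp a ha, map_one]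
  · obtain ⟨_, x, hx, rfl⟩ := a
    obtain ⟨_, y, hy, rfl⟩ := b
    exact Subtype.ext (by show f x * f y = f y * f x; rw [← map_mul, ← map_mul, h.A_comm hx hy])
  · exact fun hd => h.ndvd (hd.trans (card_map_dvd G f))
  · rintro _ ⟨a, ha, rfl⟩ ha1 _ ⟨x, hx, rfl⟩ _ ⟨y, hy, rfl⟩ hxa hya
    have ha1' : a ≠ 1 := fun e => ha1 (by rw [e, map_one])
    obtain ⟨x', hx', ex⟩ := h.lift f ha le_rfl h.norm hx hxa
    obtain ⟨y', hy', ey⟩ := h.lift f ha le_rfl h.norm hy hya
    rw [← ex, ← ey, ← map_mul, ← map_mul, h.ab a ha ha1' x' hx'.1 y' hy'.1 (mem_cent.mp hx'.2) (mem_cent.mp hy'.2)]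
  · rintro _ ⟨x, hx, rfl⟩ hall
    haveI := h.solvable_A
    obtain ⟨n, hn, hc⟩ := Core.exists_centralizing_in_coset (A := A) (N := G ⊓ f.ker) (k := x)
      ((le_inf h.norm (Core.le_normalizer_of_normal _ f.ker)).trans inf_normalizer_le_normalizer_inf)
      (h.coprime inf_le_left) (Or.inl h.solvable_A)
      (fun b hb => mem_inf.mpr ⟨mul_mem (inv_mem hx) (Core.conj_mem_of_le_normalizer h.norm hb hx), by
        rw [MonoidHom.mem_ker, map_mul, map_mul, map_mul, map_inv, map_inv,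
          ← hall _ (mem_map_of_mem f hb)]
        group⟩)
    have := h.fpf (x * n) (mul_mem hx hn.1) fun a ha => (mem_centralizer_iff.mp hc a ha).symm
    have e : f (x * n) = f x := by rw [map_mul, MonoidHom.mem_ker.mp hn.2, mul_one]
    rw [← e, this, map_one]

end CfsgLib.AbelianCent
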