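import Cfsg.Agent.Lib.AbelianCent.Main

/-!
# Solvability from abelian centralisers of a coprime operator group of order `q ^ 2`
-/

set_option autoImplicit false
set_option linter.all false

namespace CfsgLib.AbelianCent

open Subgroup
open scoped commutatorElement

universe u

/-- The map to a section, on a subgroup of the normaliser. -/
def toBar {Γ : Type u} [Group Γ] {N G : Subgroup Γ} (hGN : G ≤ normalizer (N : Set Γ)) : G →* ↥(bar N G) :=
  ((QuotientGroup.mk' (N.subgroupOf (normalizer (N : Set Γ)))).comp (Subgroup.inclusion hGN)).codRestrict _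
    fun g => mkBar_mem (hGN g.2) g.2

theorem toBar_surjective {Γ : Type u} [Group Γ] {N G : Subgroup Γ} (hGN : G ≤ normalizer (N : Set Γ)) :
    Function.Surjective (toBar hGN) := by
  rintro ⟨z, hz⟩
  obtain ⟨x, hx, rfl⟩ := (mem_bar hGN).mp hz
  exact ⟨⟨x, hx⟩, rfl⟩

theorem mem_ker_toBar {Γ : Type u} [Group Γ] {N G : Subgroup Γ} (hGN : G ≤ normalizer (N : Set Γ)) (x : G) :
    x ∈ (toBar hGN).ker ↔ (x : Γ) ∈ N := by
  rw [MonoidHom.mem_ker, ← Subtype.coe_inj]
  exact mkBar_eq_one (hGN x.2)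

theorem isSolvable_of_bar {Γ : Type u} [Group Γ] {N G : Subgroup Γ} (hNG : N ≤ G) (hGN : G ≤ normalizer (N : Set Γ))
    (hN : Group.IsSolvable N) (hB : Group.IsSolvable ↥(bar N G)) : Group.IsSolvable G := by
  haveI := hN
  haveI := hB
  exact Group.isSolvable_of_ker_le_range (Subgroup.inclusion hNG) (toBar hGN) fun x hx =>
    ⟨⟨x, (mem_ker_toBar hGN x).mp hx⟩, Subtype.ext rfl⟩

theorem solvable_aux (n : ℕ) : ∀ (Γ : Type u) [Group Γ] [Finite Γ] (A G : Subgroup Γ) (q : ℕ), Sys A G q →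
    Nat.card G = n → Group.IsSolvable G := by
  induction n using Nat.strong_induction_on with
  | _ n ih =>
  intro Γ _ _ A G q h hn
  by_contra hns
  subst hn
  have hsolv : ∀ X ≤ G, A ≤ normalizer (X : Set Γ) → X ≠ G → Group.IsSolvable X := fun X hX hXA hne =>
    ih _ (lt_of_le_of_ne (Nat.le_of_dvd Nat.card_pos (card_dvd_of_le hX))
      fun e => hne (Subgroup.eq_of_le_of_card_ge hX e.ge)) Γ A X q (h.mono hX hXA) rfl
  refine Main.false ⟨h, hsolv, fun X hX hXA hXn hne => ?_, hns⟩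
  by_contra hX1
  refine hns (isSolvable_of_bar hX hXn (hsolv X hX hXA hne) (ih _ ?_ (Bar X) (bar X A) (bar X G) q (h.bar hX hXA) rfl))
  refine lt_of_le_of_ne (Nat.card_le_card_of_surjective _ (toBar_surjective hXn)) fun e => hX1 ?_
  have hbij := (Nat.bijective_iff_surjective_and_card _).mpr ⟨toBar_surjective hXn, e.symm⟩
  rw [eq_bot_iff]
  intro x hx
  exact mem_bot.mpr (congrArg Subtype.val
    (hbij.injective ((MonoidHom.mem_ker.mp ((mem_ker_toBar hXn ⟨x, hX hx⟩).mpr hx)).trans (map_one _).symm)))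

/-- **Solvability.** A coprime action of a group of order `q ^ 2` and exponent `q` with abelian centralisers. -/
theorem isSolvable_of_abelian_centralizers {Γ : Type u} [Group Γ] [Finite Γ] {A G : Subgroup Γ} {q : ℕ} (hq : q.Prime)
    (hcard : Nat.card A = q ^ 2) (hexp : ∀ a ∈ A, a ^ q = 1) (hc : IsMulCommutative A)
    (hn : A ≤ normalizer (G : Set Γ)) (hd : ¬ q ∣ Nat.card G)
    (hab : ∀ a ∈ A, a ≠ 1 → ∀ x ∈ G, ∀ y ∈ G, x * a = a * x → y * a = a * y → x * y = y * x) :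
    Group.IsSolvable G := by
  haveI := Fact.mk hq
  haveI := hc
  obtain ⟨Z, hZ⟩ : ∃ Z, Z = G ⊓ centralizer (G : Set Γ) := ⟨_, rfl⟩
  have hZG : Z ≤ G := hZ ▸ inf_le_left
  have hGC : G ≤ centralizer (Z : Set Γ) := le_centralizer_iff.mp (hZ ▸ inf_le_right)
  have hGZ : G ≤ normalizer (Z : Set Γ) := hGC.trans (centralizer_le_normalizer _)
  have hAZ : A ≤ normalizer (Z : Set Γ) := hZ ▸
    (le_inf hn (hn.trans (Signalizer.normalizer_le_normalizer_centralizer_set G))).trans inf_normalizer_le_normalizer_inf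
  have hcen : ∀ x ∈ G, (∀ a ∈ A, x * a = a * x) → x ∈ Z := by
    intro x hx hall
    rw [hZ]
    refine ⟨hx, mem_centralizer_iff.mpr fun g hg => ?_⟩
    have hle : G ≤ centralizer ({x} : Set Γ) :=
      LocalEven.le_of_centralizers_le hexp hcard.ge hn hd fun a ha ha1 y hy =>
        mem_cent.mpr (hab a ha ha1 y hy.1 x hx (mem_cent.mp hy.2) (hall a ha))
    exact mem_cent.mp (hle hg)
  have hcop : (Nat.card A).Coprime (Nat.card Z) := by
    rw [hcard]
    exact ((Nat.Prime.coprime_iff_not_dvd hq).mpr fun h => hd (h.trans (card_dvd_of_le hZG))).pow_left 2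
  have hZab : Group.IsSolvable Z := Group.isSolvable_of_comm fun u v => Subtype.ext
    (mem_centralizer_iff.mp (hGC (hZG v.2)) u u.2)
  -- lifting fixed points
  have hcoset : ∀ B ≤ A, ∀ x, ∀ hx : x ∈ G, (∀ b, ∀ hb : b ∈ B, ∀ hbA : b ∈ A,
      mkBar Z (hGZ hx) * mkBar Z (hAZ hbA) = mkBar Z (hAZ hbA) * mkBar Z (hGZ hx)) →
      ∃ y, ∃ hy : y ∈ G, mkBar Z (hGZ hy) = mkBar Z (hGZ hx) ∧ ∀ b ∈ B, y * b = b * y := by
    intro B hB x hx hfix
    obtain ⟨n, hn', hc'⟩ := Core.exists_centralizing_in_coset (A := B) (N := Z) (k := x) (hB.trans hAZ)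
      (hcop.coprime_dvd_left (card_dvd_of_le hB)) (Or.inr hZab) fun b hb => by
        have hcm := (mkBar_comm (hGZ hx) (hAZ (hB hb))).mp (hfix b hb (hB hb))
        have := (mem_normalizer_iff.mp (inv_mem (hGZ hx)) _).mp (inv_mem hcm)
        rw [show x⁻¹ * ⁅x, b⁆⁻¹ * x⁻¹⁻¹ = x⁻¹ * (b * x * b⁻¹) by simp only [commutatorElement_def]; group] at this
        exact this
    refine ⟨x * n, mul_mem hx (hZG hn'), (mkBar_eq_iff _ _).mpr ?_, fun b hb => (mem_centralizer_iff.mp hc' b hb).symm⟩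
    rw [show (x * n)⁻¹ * x = n⁻¹ by group]
    exact inv_mem hn'
  have hAZ' : A ⊓ Z = ⊥ := Subgroup.inf_eq_bot_of_coprime hcop
  have hinj : ∀ a, ∀ ha : a ∈ A, mkBar Z (hAZ ha) = 1 → a = 1 := fun a ha e =>
    mem_bot.mp (hAZ'.le ⟨ha, (mkBar_eq_one _).mp e⟩)
  have hsys : Sys (bar Z A) (bar Z G) q := by
    refine ⟨hq, ?_, ?_, isMulCommutative_bar hAZ fun a ha b hb => ?_, bar_le_normalizer hn,
      fun e => hd (e.trans (card_bar_dvd hGZ)), ?_, ?_⟩
    · rw [← hcard]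
      refine (Nat.card_congr (Equiv.ofBijective _ ⟨?_, toBar_surjective hAZ⟩)).symm
      refine (injective_iff_map_eq_one (toBar hAZ)).mpr fun a ha => Subtype.ext ?_
      exact hinj a a.2 (congrArg Subtype.val ha)
    · intro z hz
      obtain ⟨a, ha, rfl⟩ := (mem_bar hAZ).mp hz
      rw [mkBar, ← map_pow, show (⟨a, hAZ ha⟩ : normalizer (Z : Set Γ)) ^ q = 1 from Subtype.ext (hexp a ha), map_one]
    · rw [commutatorElement_eq_one_iff_mul_comm.mpr (congrArg Subtype.val (hc.is_comm.comm ⟨a, ha⟩ ⟨b, hb⟩))]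
      exact one_mem Z
    · intro z hz hz1 u hu v hv huz hvz
      obtain ⟨a, ha, rfl⟩ := (mem_bar hAZ).mp hz
      obtain ⟨x, hx, rfl⟩ := (mem_bar hGZ).mp hu
      obtain ⟨y, hy, rfl⟩ := (mem_bar hGZ).mp hv
      have hpow : ∀ w, ∀ hw : w ∈ G, mkBar Z (hGZ hw) * mkBar Z (hAZ ha) = mkBar Z (hAZ ha) * mkBar Z (hGZ hw) →
          ∀ b, ∀ hb : b ∈ zpowers a, ∀ hbA : b ∈ A,
            mkBar Z (hGZ hw) * mkBar Z (hAZ hbA) = mkBar Z (hAZ hbA) * mkBar Z (hGZ hw) := by
        intro w hw hcm b hb hbA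
        obtain ⟨i, rfl⟩ := mem_zpowers_iff.mp hb
        have e : mkBar Z (hAZ hbA) = mkBar Z (hAZ ha) ^ i := by rw [mkBar, mkBar, ← map_zpow]; rfl
        rw [e]
        exact ((show Commute _ _ from hcm).zpow_right i).eq
      obtain ⟨x', hx', ex, hxc⟩ := hcoset _ (zpowers_le.mpr ha) x hx (hpow x hx huz)
      obtain ⟨y', hy', ey, hyc⟩ := hcoset _ (zpowers_le.mpr ha) y hy (hpow y hy hvz)
      rw [← ex, ← ey]
      exact mkBar_comm_of _ _ (hab a ha (fun e => hz1 ((mkBar_eq_one _).mpr (e ▸ one_mem Z))) x' hx' y' hy'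
        (hxc a (mem_zpowers a)) (hyc a (mem_zpowers a)))
    · intro u hu hall
      obtain ⟨x, hx, rfl⟩ := (mem_bar hGZ).mp hu
      obtain ⟨y, hy, ey, hyc⟩ := hcoset A le_rfl x hx fun b hb hbA => hall _ (mkBar_mem _ hbA)
      rw [← ey, mkBar_eq_one]
      exact hcen y hy hyc
  exact isSolvable_of_bar hZG hGZ hZab (solvable_aux _ _ _ _ q hsys rfl)

end CfsgLib.AbelianCent
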